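import Mathlib.AlgebraicGeometry.Morphisms.QuasiFinite
import Mathlib.AlgebraicGeometry.Morphisms.Etale
import Mathlib.AlgebraicGeometry.Morphisms.FormallyUnramified
import Mathlib.RingTheory.RingHom.QuasiFinite
import Mathlib.RingTheory.Unramified.LocalStructure

set_option autoImplicit false
universe u

/-! Unramified morphisms locally of finite type are locally quasi-finite. -/

namespace K147.LQF

open CategoryTheory AlgebraicGeometry

/-- Unramified morphisms locally of finite type are locally quasi-finite. -/
theorem locallyQuasiFinite_of_unramified {X Y : Scheme.{u}} (f : X ⟶ Y) [LocallyOfFiniteType f]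
    [FormallyUnramified f] : LocallyQuasiFinite f := by
  rw [HasRingHomProperty.iff_appLE (P := @LocallyQuasiFinite)]
  intro V W e
  have h := HasRingHomProperty.appLE (P := @FormallyUnramified) f ‹_› V W e
  have h' := HasRingHomProperty.appLE (P := @LocallyOfFiniteType) f ‹_› V W e
  algebraize [(f.appLE V W e).hom]
  have : Algebra.FormallyUnramified Γ(Y, V) Γ(X, W) := inferInstance
  have : Algebra.EssFiniteType Γ(Y, V) Γ(X, W) := inferInstance
  have : Algebra.QuasiFinite Γ(Y, V) Γ(X, W) := inferInstance
  exact this

/-- Étale morphisms are locally quasi-finite. -/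
theorem locallyQuasiFinite_of_etale {X Y : Scheme.{u}} (f : X ⟶ Y) [Etale f] :
    LocallyQuasiFinite f :=
  locallyQuasiFinite_of_unramified f

end K147.LQF
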