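import Groth.Agent.Flat2D.GeomFib
import Groth.Agent.Unram.K147.LQF
import Mathlib.AlgebraicGeometry.Morphisms.FlatRank
import Mathlib.RingTheory.TotallySplit

set_option autoImplicit false
universe u

/-!
# Number of points of geometric fibres of étale morphisms

* `card_geomFiber_eq_nGeomConnComp`: for locally quasi-finite `f`, the geometric fibre is discrete.
* `card_geomFiber_of_finite_etale`: for `f` finite étale over `U`, the number of geometric points over `y ∈ U` is the rank.
-/

namespace K147.GeomCount

open CategoryTheory Limits AlgebraicGeometry Groth.Agent.Flat2D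

theorem card_connectedComponents {P : Type*} [TopologicalSpace P] [DiscreteTopology P] :
    ENat.card (_root_.ConnectedComponents P) = ENat.card P := by
  refine (ENat.card_congr (Equiv.ofBijective (fun x : P => (x : _root_.ConnectedComponents P)) ⟨?_, ?_⟩)).symm
  · intro x y h
    have h1 := ConnectedComponents.coe_eq_coe.mp h
    rw [connectedComponent_eq_singleton, connectedComponent_eq_singleton] at h1
    exact Set.singleton_injective h1
  · exact ConnectedComponents.surjective_coe

theorem discreteTopology_of_isPullback {X Y P : Scheme.{u}} {f : X ⟶ Y} [LocallyQuasiFinite f]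
    {E : Type u} [Field E] {γ : Spec (.of E) ⟶ Y} {p : P ⟶ X} {q : P ⟶ Spec (.of E)}
    (h : IsPullback p q f γ) : DiscreteTopology P := by
  have hq : LocallyQuasiFinite q := MorphismProperty.of_isPullback (P := @LocallyQuasiFinite) h inferInstance
  let z : Spec (.of E) := IsLocalRing.closedPoint E
  have h1 := q.isDiscrete_preimage_singleton z
  have h2 : q ⁻¹' {z} = Set.univ := by
    refine Set.eq_univ_of_forall fun w => ?_
    exact Subsingleton.elim _ _
  rw [h2] at h1
  exact isDiscrete_univ_iff.mp h1

theorem card_geomFiber_eq_nGeomConnComp {X Y : Scheme.{u}} (f : X ⟶ Y) [LocallyQuasiFinite f] (y : Y) :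
    ENat.card ↥(MoreMor.geomFiber f y) = MoreMor.nGeomConnComp f y := by
  obtain ⟨p, q, h⟩ := GeomFib.exists_isPullback_geomFiber f y
  have := discreteTopology_of_isPullback h
  rw [MoreMor.nGeomConnComp, card_connectedComponents]

/-- A finite étale scheme over a separably closed field has as many points as its rank. -/
theorem card_eq_finrank {E : Type u} [Field E] [IsSepClosed E] {W : Scheme.{u}}
    (g : W ⟶ Spec (.of E)) [IsFinite g] [Etale g] (z : Spec (.of E)) :
    ENat.card W = g.finrank z := by
  have hW : IsAffine W := isAffine_of_isAffineHom g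
  let C := Γ(W, ⊤)
  let φ : CommRingCat.of E ⟶ C := Spec.preimage (W.isoSpec.inv ≫ g)
  have hφ : Spec.map φ = W.isoSpec.inv ≫ g := Spec.map_preimage _
  let _ := φ.hom.toAlgebra
  have hfin : IsFinite (Spec.map φ) := by rw [hφ]; infer_instance
  have het : Etale (Spec.map φ) := by rw [hφ]; infer_instance
  have hfin' : Module.Finite E C := by
    rw [IsFinite.SpecMap_iff] at hfin
    exact hfin
  have het' : Algebra.Etale E C := by
    rw [HasRingHomProperty.Spec_iff (P := @Etale)] at het
    exact het
  have h1 : ENat.card W = ENat.card (PrimeSpectrum C) :=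
    ENat.card_congr (Scheme.homeoOfIso W.isoSpec).toEquiv
  have h2 : (Spec.map (CommRingCat.ofHom (algebraMap E C))).finrank z = g.finrank z := by
    have : Spec.map (CommRingCat.ofHom (algebraMap E C)) = W.isoSpec.inv ≫ g := hφ
    rw [this, Scheme.Hom.finrank_comp_left_of_isIso]
  have : IsArtinianRing C := isArtinian_of_tower E inferInstance
  have : Fintype (PrimeSpectrum C) := Fintype.ofFinite _
  have h3 : Module.finrank E C = Fintype.card (PrimeSpectrum C) := by
    rw [(Algebra.FormallyEtale.equivPiOfIsSepClosed E C).toLinearEquiv.finrank_eq, Module.finrank_pi]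
  have h4 : Module.finrank E C = g.finrank z := by
    rw [← h2]
    have h5 := Scheme.Hom.finrank_SpecMap_algebraMap E C z
    rw [Module.rankAtStalk_eq_finrank_of_free] at h5
    exact h5.symm
  rw [h1, ← h4, ENat.card_eq_coe_fintype_card, ← h3]

/-- The number of geometric points of a finite étale morphism is its rank. -/
theorem card_geomFiber_of_finite_etale {X Y : Scheme.{u}} (f : X ⟶ Y) (U : Y.Opens)
    [IsFinite (f ∣_ U)] [Etale (f ∣_ U)] (y : Y) (hy : y ∈ U) :
    ENat.card ↥(MoreMor.geomFiber f y) = (f ∣_ U).finrank ⟨y, hy⟩ := by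
  obtain ⟨p, q, h⟩ := GeomFib.exists_isPullback_geomFiber f y
  let γ := Spec.map (CommRingCat.ofHom
          (algebraMap (Y.residueField y) (SeparableClosure (Y.residueField y)))) ≫
        Y.fromSpecResidueField y
  have hγ : ∀ z, γ z = y := fun z => GeomFib.comp_fromSpecResidueField_apply y _ z
  have hr : Set.range γ ⊆ Set.range U.ι := by
    rintro _ ⟨z, rfl⟩
    rw [hγ, Scheme.Opens.range_ι]
    exact hy
  let γ' := IsOpenImmersion.lift U.ι γ hr
  have hγ' : γ' ≫ U.ι = γ := IsOpenImmersion.lift_fac _ _ _
  have h1 : IsPullback p q f (γ' ≫ U.ι) := by rw [hγ']; exact h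
  have h2 := IsPullback.of_right' h1 (isPullback_morphismRestrict f U).flip
  have hq1 : IsFinite q := MorphismProperty.of_isPullback (P := @IsFinite) h2 inferInstance
  have hq2 : Etale q := MorphismProperty.of_isPullback (P := @Etale) h2 inferInstance
  let z : Spec (.of (SeparableClosure (Y.residueField y))) := IsLocalRing.closedPoint _
  have h3 := Scheme.Hom.finrank_of_isPullback _ q (f ∣_ U) γ' h2 z
  rw [card_eq_finrank q z, h3]
  congr 2
  apply U.ι.injective
  rw [← Scheme.Hom.comp_apply, hγ', hγ]
  rfl

end K147.GeomCount
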