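import Mathlib.AlgebraicGeometry.Morphisms.Finite
import Mathlib.AlgebraicGeometry.Morphisms.Etale
import Mathlib.AlgebraicGeometry.Morphisms.Flat

set_option autoImplicit false
universe u

/-! Affine charts of affine morphisms as cartesian squares. -/

namespace K147.AffPull

open CategoryTheory AlgebraicGeometry
open scoped TensorProduct

variable {X Y : Scheme.{u}} (f : X ⟶ Y)

theorem isPullback_fromSpec [IsAffineHom f] {V : Y.Opens} (hV : IsAffineOpen V) :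
    IsPullback (hV.preimage f).fromSpec (Spec.map (f.app V)) f hV.fromSpec := by
  refine (IsOpenImmersion.isPullback _ _ _ _ ?_ ?_).flip
  · rw [Scheme.Hom.app_eq_appLE]
    exact (hV.SpecMap_appLE_fromSpec f (hV.preimage f) le_rfl).symm
  · rw [IsAffineOpen.opensRange_fromSpec, IsAffineOpen.opensRange_fromSpec]

/-- The pullback of an affine morphism along `Spec K ⟶ Spec Γ(Y, V) ⟶ Y`. -/
theorem isPullback_tensor [IsAffineHom f] {V : Y.Opens} (hV : IsAffineOpen V) (K : Type u) [CommRing K]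
    [Algebra Γ(Y, V) K] [Algebra Γ(Y, V) Γ(X, f ⁻¹ᵁ V)] (hB : algebraMap Γ(Y, V) Γ(X, f ⁻¹ᵁ V) = (f.app V).hom) :
    IsPullback (Spec.map (CommRingCat.ofHom
      ((Algebra.TensorProduct.includeRight : _ →ₐ[Γ(Y, V)] (K ⊗[Γ(Y, V)] Γ(X, f ⁻¹ᵁ V))).toRingHom)) ≫
      (hV.preimage f).fromSpec)
      (Spec.map (CommRingCat.ofHom (algebraMap K (K ⊗[Γ(Y, V)] Γ(X, f ⁻¹ᵁ V))))) f
      (Spec.map (CommRingCat.ofHom (algebraMap Γ(Y, V) K)) ≫ hV.fromSpec) := by
  have h1 := CommRingCat.isPushout_tensorProduct Γ(Y, V) K Γ(X, f ⁻¹ᵁ V)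
  have h2 := isPullback_SpecMap_of_isPushout _ _ _ _ h1
  have h3 := isPullback_fromSpec f hV
  have h4 : f.app V = CommRingCat.ofHom (algebraMap Γ(Y, V) Γ(X, f ⁻¹ᵁ V)) := by
    rw [hB]; rfl
  rw [h4] at h3
  exact h2.flip.paste_horiz h3

theorem etale_tensor [IsAffineHom f] {V : Y.Opens} (hV : IsAffineOpen V) (K : Type u) [CommRing K]
    [Algebra Γ(Y, V) K] [Algebra Γ(Y, V) Γ(X, f ⁻¹ᵁ V)] (hB : algebraMap Γ(Y, V) Γ(X, f ⁻¹ᵁ V) = (f.app V).hom)
    (U : Y.Opens) [Etale (f ∣_ U)]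
    (hU : Set.range (Spec.map (CommRingCat.ofHom (algebraMap Γ(Y, V) K)) ≫ hV.fromSpec) ⊆ Set.range U.ι) :
    Algebra.Etale K (K ⊗[Γ(Y, V)] Γ(X, f ⁻¹ᵁ V)) := by
  have h1 := isPullback_tensor f hV K hB
  let g' := IsOpenImmersion.lift U.ι (Spec.map (CommRingCat.ofHom (algebraMap Γ(Y, V) K)) ≫ hV.fromSpec) hU
  have hg' : g' ≫ U.ι = Spec.map (CommRingCat.ofHom (algebraMap Γ(Y, V) K)) ≫ hV.fromSpec :=
    IsOpenImmersion.lift_fac _ _ _
  have hpb : IsPullback (f ∣_ U) (f ⁻¹ᵁ U).ι U.ι f := isPullback_morphismRestrict f U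
  rw [← hg'] at h1
  have hpb' := IsPullback.of_right' h1 hpb.flip
  have hE : Etale (Spec.map (CommRingCat.ofHom (algebraMap K (K ⊗[Γ(Y, V)] Γ(X, f ⁻¹ᵁ V))))) :=
    MorphismProperty.of_isPullback (P := @Etale) hpb' inferInstance
  exact RingHom.etale_algebraMap.mp ((HasRingHomProperty.Spec_iff (P := @Etale)).mp hE)

end K147.AffPull
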