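import Groth.Agent.Pi1A.QfUnramAlg
import Groth.Agent.S2195
import Mathlib.RingTheory.Ideal.KrullsHeightTheorem
import Mathlib.RingTheory.Kaehler.TensorProduct
import Mathlib.RingTheory.LocalProperties.Submodule
import Mathlib.RingTheory.Smooth.Fiber
import Mathlib.RingTheory.Localization.Free

set_option autoImplicit false
universe u

/-! Finite flat algebras étale in codimension one are étale. -/

namespace K147.CodimTwo

open scoped TensorProduct

/-- Unramifiedness can be checked after localizing the base at maximal ideals. -/
theorem formallyUnramified_of_localization (A B : Type u) [CommRing A] [CommRing B] [Algebra A B]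
    (H : ∀ (p : Ideal A) [p.IsMaximal],
      Algebra.FormallyUnramified (Localization.AtPrime p) (Localization.AtPrime p ⊗[A] B)) :
    Algebra.FormallyUnramified A B := by
  rw [Algebra.formallyUnramified_iff]
  refine Module.subsingleton_of_localization_maximal (R := A) (M := Ω[B⁄A])
    (fun p _ => LocalizedModule p.primeCompl (Ω[B⁄A]))
    (fun p _ => LocalizedModule.mkLinearMap p.primeCompl (Ω[B⁄A])) ?_
  intro p hp
  have := H p
  have h1 : Subsingleton (Ω[(Localization.AtPrime p ⊗[A] B)⁄(Localization.AtPrime p)]) := inferInstance
  let : Algebra B (Localization.AtPrime p ⊗[A] B) := Algebra.TensorProduct.rightAlgebra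
  have h2 : Subsingleton (Localization.AtPrime p ⊗[A] Ω[B⁄A]) :=
    (KaehlerDifferential.tensorKaehlerEquivBase A (Localization.AtPrime p) B
      (Localization.AtPrime p ⊗[A] B)).toEquiv.subsingleton
  exact (LocalizedModule.equivTensorProduct p.primeCompl (Ω[B⁄A])).toEquiv.subsingleton

/-- A finite flat algebra over a Noetherian ring which is étale in codimension one is étale. -/
theorem etale_of_codim (A B : Type u) [CommRing A] [IsNoetherianRing A] [CommRing B] [Algebra A B]
    [Module.Finite A B] [Module.Flat A B]
    (H : ∀ (p : Ideal A) [p.IsPrime], ringKrullDim (Localization.AtPrime p) ≤ 1 →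
      Algebra.Etale (Localization.AtPrime p) (Localization.AtPrime p ⊗[A] B)) :
    Algebra.Etale A B := by
  have hfp : Algebra.FinitePresentation A B :=
    Algebra.FinitePresentation.of_finiteType.mp inferInstance
  have hur : Algebra.FormallyUnramified A B := by
    refine formallyUnramified_of_localization A B fun q hq => ?_
    let Aq := Localization.AtPrime q
    have hfree : Module.Free Aq (Aq ⊗[A] B) := Module.free_of_flat_of_isLocalRing
    let b := Module.Free.chooseBasis Aq (Aq ⊗[A] B)
    classical
    let n := Fintype.card (Module.Free.ChooseBasisIndex Aq (Aq ⊗[A] B))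
    let b' : Module.Basis (Fin n) Aq (Aq ⊗[A] B) := b.reindex (Fintype.equivFin _)
    have key : IsUnit (Algebra.discr Aq b') := by
      by_contra hd
      have h1 : Algebra.discr Aq b' ∈ IsLocalRing.maximalIdeal Aq := hd
      obtain ⟨P, hP, -⟩ := Ideal.exists_minimalPrimes_le
        (I := Ideal.span {Algebra.discr Aq b'}) (J := IsLocalRing.maximalIdeal Aq)
        ((Ideal.span_singleton_le_iff_mem _).mpr h1)
      have hPp : P.IsPrime := hP.1.1
      have hdP : Algebra.discr Aq b' ∈ P := hP.1.2 (Ideal.mem_span_singleton_self _)
      have hht : P.height ≤ 1 := Ideal.height_le_one_of_isPrincipal_of_mem_minimalPrimes _ P hP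
      let p : Ideal A := P.comap (algebraMap A Aq)
      have hp : p.IsPrime := inferInstance
      let K := Localization.AtPrime p
      let K' := Localization.AtPrime P
      have hdim : ringKrullDim K ≤ 1 := by
        rw [IsLocalization.AtPrime.ringKrullDim_eq_height p K]
        have : p.height = P.height := IsLocalization.height_under q.primeCompl P
        rw [this]
        exact_mod_cast hht
      have hE := H p hdim
      let φ : K →+* K' := IsLocalization.lift (M := p.primeCompl) (g := algebraMap A K') (fun y => by
        rw [IsScalarTower.algebraMap_apply A Aq K']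
        exact (IsLocalization.AtPrime.isUnit_to_map_iff K' P _).mpr y.2)
      let : Algebra K K' := φ.toAlgebra
      have : IsScalarTower A K K' := IsScalarTower.of_algebraMap_eq fun x =>
        (IsLocalization.lift_eq (M := p.primeCompl) (g := algebraMap A K') _ x).symm
      have hE1 : Algebra.Etale K' (K' ⊗[K] (K ⊗[A] B)) := inferInstance
      let e : (K' ⊗[K] (K ⊗[A] B)) ≃ₐ[K'] (K' ⊗[A] B) := Algebra.TensorProduct.cancelBaseChange A K K' K' B
      let e' : (K' ⊗[Aq] (Aq ⊗[A] B)) ≃ₐ[K'] (K' ⊗[A] B) := Algebra.TensorProduct.cancelBaseChange A Aq K' K' B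
      have hE3 : Algebra.Etale K' (K' ⊗[Aq] (Aq ⊗[A] B)) :=
        @Algebra.Etale.of_equiv _ _ _ _ _ _ _ _ hE1 (e.trans e'.symm)
      have hu := (Groth.Agent.S2195.result (b'.baseChange K')).mp hE3
      rw [Groth.Agent.Pi1A.QfUnramAlg.discr_baseChange] at hu
      exact (IsLocalization.AtPrime.isUnit_to_map_iff K' P _).mp hu hdP
    have := (Groth.Agent.S2195.result b').mpr key
    infer_instance
  exact Algebra.Etale.of_formallyUnramified_of_flat

end K147.CodimTwo
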