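import Groth.Agent.Unram.K147.ArtinSub
import Groth.Agent.S0433
import Mathlib.AlgebraicGeometry.Stalk
import Mathlib.AlgebraicGeometry.ResidueField
import Mathlib.AlgebraicGeometry.AffineScheme

set_option autoImplicit false
universe u

/-!
# Formal versality over local Artinian rings and finite residue field extensions
-/

namespace K147.ArtinVersal

open CategoryTheory AlgebraicGeometry IsLocalRing

/-- `Spec` of an injective local homomorphism of local rings is an epimorphism of schemes. -/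
theorem hom_ext_of_local {C₀ C : Type u} [CommRing C₀] [CommRing C] [IsLocalRing C₀] [IsLocalRing C]
    (j : C₀ →+* C) [IsLocalHom j] (hj : Function.Injective j) {X : Scheme.{u}}
    (p q : Spec (CommRingCat.of C₀) ⟶ X)
    (h : Spec.map (CommRingCat.ofHom j) ≫ p = Spec.map (CommRingCat.ofHom j) ≫ q) : p = q := by
  have hc : Spec.map (CommRingCat.ofHom j) (closedPoint C : Spec (CommRingCat.of C)) = closedPoint C₀ :=
    IsLocalRing.comap_closedPoint j
  have hpt : p (closedPoint C₀) = q (closedPoint C₀) := by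
    rw [← hc]
    exact congrArg (fun (f : Spec (CommRingCat.of C) ⟶ X) => f (closedPoint C : Spec (CommRingCat.of C))) h
  obtain ⟨V, hV, hxV, -⟩ := exists_isAffineOpen_mem_and_subset (X := X) (x := p (closedPoint C₀)) (U := ⊤) trivial
  have hp : p ⁻¹ᵁ V = ⊤ := IsLocalRing.closed_point_mem_iff.mp hxV
  have hq : q ⁻¹ᵁ V = ⊤ := IsLocalRing.closed_point_mem_iff.mp (by
    change q (closedPoint C₀) ∈ V
    rw [← hpt]; exact hxV)
  have hpr : Set.range p ⊆ Set.range V.ι := by
    rintro _ ⟨y, rfl⟩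
    have : y ∈ p ⁻¹ᵁ V := by rw [hp]; trivial
    simpa using this
  have hqr : Set.range q ⊆ Set.range V.ι := by
    rintro _ ⟨y, rfl⟩
    have : y ∈ q ⁻¹ᵁ V := by rw [hq]; trivial
    simpa using this
  let p' := IsOpenImmersion.lift V.ι p hpr
  let q' := IsOpenImmersion.lift V.ι q hqr
  have hp' : p' ≫ V.ι = p := IsOpenImmersion.lift_fac _ _ _
  have hq' : q' ≫ V.ι = q := IsOpenImmersion.lift_fac _ _ _
  have h' : Spec.map (CommRingCat.ofHom j) ≫ p' = Spec.map (CommRingCat.ofHom j) ≫ q' := by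
    rw [← cancel_mono V.ι, Category.assoc, Category.assoc, hp', hq', h]
  have : IsAffine V := hV
  have hpq : p' = q' := by
    refine ext_of_isAffine ?_
    have h1 : p'.appTop ≫ (Spec.map (CommRingCat.ofHom j)).appTop =
        q'.appTop ≫ (Spec.map (CommRingCat.ofHom j)).appTop := by
      rw [← Scheme.Hom.comp_appTop, ← Scheme.Hom.comp_appTop, h']
    have h2 : Mono (Spec.map (CommRingCat.ofHom j)).appTop := by
      have h3 : Mono (CommRingCat.ofHom j) := ConcreteCategory.mono_of_injective _ hj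
      have h4 : (Spec.map (CommRingCat.ofHom j)).appTop =
          (Scheme.ΓSpecIso _).hom ≫ CommRingCat.ofHom j ≫ (Scheme.ΓSpecIso _).inv := by
        rw [← Category.assoc, ← Scheme.ΓSpecIso_naturality, Category.assoc, Iso.hom_inv_id, Category.comp_id]
      rw [h4]
      infer_instance
    exact (cancel_mono _).mp h1
  rw [← hp', ← hq', hpq]

/-- factoring a morphism from the spectrum of a local ring through the spectrum of a subring -/
theorem exists_fac {C₀ C : Type u} [CommRing C₀] [CommRing C] [IsLocalRing C]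
    (j : C₀ →+* C) (hj : Function.Injective j) {X : Scheme.{u}} (a : Spec (CommRingCat.of C) ⟶ X)
    (h : ∀ r, (Scheme.stalkClosedPointTo a).hom r ∈ j.range) :
    ∃ a₀ : Spec (CommRingCat.of C₀) ⟶ X, Spec.map (CommRingCat.ofHom j) ≫ a₀ = a := by
  let e : C₀ ≃+* j.range := RingEquiv.ofBijective j.rangeRestrict
    ⟨fun x y hxy => hj (congrArg Subtype.val hxy), j.rangeRestrict_surjective⟩
  let ψ : X.presheaf.stalk (a (closedPoint C)) →+* C₀ :=
    e.symm.toRingHom.comp ((Scheme.stalkClosedPointTo a).hom.codRestrict j.range h)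
  have hψ : j.comp ψ = (Scheme.stalkClosedPointTo a).hom := by
    ext r
    have h1 : j (e.symm ⟨(Scheme.stalkClosedPointTo a).hom r, h r⟩) =
        ((e (e.symm ⟨(Scheme.stalkClosedPointTo a).hom r, h r⟩) : j.range) : C) := rfl
    change j (e.symm ⟨(Scheme.stalkClosedPointTo a).hom r, h r⟩) = _
    rw [h1, RingEquiv.apply_symm_apply]
  refine ⟨Spec.map (CommRingCat.ofHom ψ) ≫ X.fromSpecStalk _, ?_⟩
  rw [← Category.assoc, ← Spec.map_comp, ← CommRingCat.ofHom_comp, hψ]
  exact Scheme.Spec_stalkClosedPointTo_fromSpecStalk a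

open Limits in
/-- `Spec` turns a cartesian square of rings with a surjective leg into a pushout. -/
theorem isPushout_of_isPullback {P C₀ C C' : Type u} [CommRing P] [CommRing C₀] [CommRing C] [CommRing C']
    (π₀ : P →+* C₀) (j' : P →+* C') (j : C₀ →+* C) (π : C' →+* C) (hπ : Function.Surjective π)
    (h : IsPullback (CommRingCat.ofHom π₀) (CommRingCat.ofHom j') (CommRingCat.ofHom j) (CommRingCat.ofHom π)) :
    IsPushout (Spec.map (CommRingCat.ofHom π)) (Spec.map (CommRingCat.ofHom j))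
      (Spec.map (CommRingCat.ofHom j')) (Spec.map (CommRingCat.ofHom π₀)) := by
  refine IsPushout.of_iso (Groth.Agent.S0433.result π hπ j) (Iso.refl _) (Iso.refl _)
    (Iso.refl _) (Scheme.Spec.mapIso h.isoPullback.op) (by simp) (by simp) ?_ ?_
  · simp only [Iso.refl_hom, Category.id_comp]
    change Spec.map _ ≫ Spec.map _ = _
    rw [← Spec.map_comp]
    congr 1
    simp
  · simp only [Iso.refl_hom, Category.id_comp]
    change Spec.map _ ≫ Spec.map _ = _
    rw [← Spec.map_comp]
    congr 1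
    simp

/-- The lifting property against surjections of local Artinian rings with residue field `κ(t)`. -/
def Versal {S T : Scheme.{u}} (g : T ⟶ S) (t : T) : Prop :=
  ∀ (C C' : Type u) [CommRing C] [CommRing C'] [IsLocalRing C] [IsLocalRing C'] [IsArtinianRing C]
    [IsArtinianRing C'] (π : C' →+* C), Function.Surjective π →
    ∀ (a : Spec (CommRingCat.of C) ⟶ T) (b : Spec (CommRingCat.of C') ⟶ S),
      a (IsLocalRing.closedPoint C) = t →
      Function.Surjective (a.residueFieldMap (IsLocalRing.closedPoint C)).hom →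
      Spec.map (CommRingCat.ofHom π) ≫ b = a ≫ g →
      ∃ c : Spec (CommRingCat.of C') ⟶ T, Spec.map (CommRingCat.ofHom π) ≫ c = a ∧ c ≫ g = b

/-- The residue field map of a morphism from the spectrum of a local ring. -/
theorem residue_comp {C : Type u} [CommRing C] [IsLocalRing C] {T : Scheme.{u}}
    (a : Spec (CommRingCat.of C) ⟶ T) :
    ∃ σ : (Spec (CommRingCat.of C)).residueField (closedPoint C) →+* ResidueField C,
      Function.Bijective σ ∧ 
      (residue C).comp (Scheme.stalkClosedPointTo a).hom =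
        (σ.comp (a.residueFieldMap (closedPoint C)).hom).comp
          (T.residue (a (closedPoint C))).hom := by
  let x : Spec (CommRingCat.of C) := closedPoint C
  let e : (Spec (CommRingCat.of C)).presheaf.stalk x ≃+* C :=
    (stalkClosedPointIso (CommRingCat.of C)).commRingCatIsoToRingEquiv
  refine ⟨(ResidueField.mapEquiv e).toRingHom, (ResidueField.mapEquiv e).bijective, ?_⟩
  have h1 : (a.residueFieldMap x).hom.comp (T.residue (a x)).hom =
      ((Spec (CommRingCat.of C)).residue x).hom.comp (a.stalkMap x).hom :=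
    congrArg CommRingCat.Hom.hom (Scheme.residue_residueFieldMap a x)
  refine RingHom.ext fun r => ?_
  exact (congrArg (ResidueField.mapEquiv e) (RingHom.congr_fun h1 r)).symm

theorem germ_to {C : Type u} [CommRing C] [IsLocalRing C] {T : Scheme.{u}}
    (a : Spec (CommRingCat.of C) ⟶ T) (U : T.Opens) (hU : a (closedPoint C) ∈ U) (e : ⊤ ≤ a ⁻¹ᵁ U) :
    T.presheaf.germ U _ hU ≫ Scheme.stalkClosedPointTo a =
      a.appLE U ⊤ e ≫ (Scheme.ΓSpecIso (CommRingCat.of C)).hom := by
  rw [Scheme.germ_stalkClosedPointTo]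
  simp [Scheme.Hom.app_eq_appLE]

theorem germ_comp {C₀ C : Type u} [CommRing C₀] [CommRing C] [IsLocalRing C₀] [IsLocalRing C]
    (j : C₀ →+* C) {T : Scheme.{u}} (a₀ : Spec (CommRingCat.of C₀) ⟶ T)
    (a : Spec (CommRingCat.of C) ⟶ T) (h : Spec.map (CommRingCat.ofHom j) ≫ a₀ = a) (U : T.Opens)
    (hU₀ : a₀ (closedPoint C₀) ∈ U) (hU : a (closedPoint C) ∈ U) (s : Γ(T, U)) :
    j ((Scheme.stalkClosedPointTo a₀).hom ((T.presheaf.germ U _ hU₀).hom s)) =
      (Scheme.stalkClosedPointTo a).hom ((T.presheaf.germ U _ hU).hom s) := by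
  have e₀ : ⊤ ≤ a₀ ⁻¹ᵁ U := (Scheme.preimage_eq_top_of_closedPoint_mem a₀ hU₀).ge
  have e : ⊤ ≤ a ⁻¹ᵁ U := (Scheme.preimage_eq_top_of_closedPoint_mem a hU).ge
  have h1 := congrArg CommRingCat.Hom.hom (germ_to a₀ U hU₀ e₀)
  have h2 := congrArg CommRingCat.Hom.hom (germ_to a U hU e)
  have h3 := RingHom.congr_fun h1 s
  have h4 := RingHom.congr_fun h2 s
  refine (congrArg j h3).trans (Eq.trans ?_ h4.symm)
  subst h
  have h5 : (Spec.map (CommRingCat.ofHom j) ≫ a₀).appLE U ⊤ e ≫ (Scheme.ΓSpecIso (CommRingCat.of C)).hom =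
      a₀.appLE U ⊤ e₀ ≫ (Scheme.ΓSpecIso (CommRingCat.of C₀)).hom ≫ CommRingCat.ofHom j := by
    rw [← Scheme.ΓSpecIso_naturality]
    have h6 : (Spec.map (CommRingCat.ofHom j)).appTop =
        (Spec.map (CommRingCat.ofHom j)).appLE ⊤ ⊤ (by rw [Scheme.Hom.preimage_top]) :=
      (Spec.map (CommRingCat.ofHom j)).app_eq_appLE
    have h7 := Scheme.Hom.appLE_comp_appLE (Spec.map (CommRingCat.ofHom j)) a₀ U ⊤ ⊤ e₀
      (by rw [Scheme.Hom.preimage_top])
    rw [h6, ← Category.assoc, h7]
  exact (RingHom.congr_fun (congrArg CommRingCat.Hom.hom h5) s).symm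

theorem core {S T : Scheme.{u}} (g : T ⟶ S) (t : T) (hT : Versal g t)
    (C C' : Type u) [CommRing C] [CommRing C'] [IsLocalRing C] [IsLocalRing C'] [IsArtinianRing C]
    [IsArtinianRing C'] (π : C' →+* C) (hπ : Function.Surjective π)
    (a : Spec (CommRingCat.of C) ⟶ T) (b : Spec (CommRingCat.of C') ⟶ S)
    (ha : a (IsLocalRing.closedPoint C) = t)
    (hfin : (a.residueFieldMap (IsLocalRing.closedPoint C)).hom.Finite)
    (hab : Spec.map (CommRingCat.ofHom π) ≫ b = a ≫ g) :
    ∃ c : Spec (CommRingCat.of C') ⟶ T, Spec.map (CommRingCat.ofHom π) ≫ c = a ∧ c ≫ g = b := by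
  obtain ⟨σ, hσ, hσa⟩ := residue_comp a
  -- the residue field extension
  let k := T.residueField (a (closedPoint C))
  let K := ResidueField C
  let ψ : k →+* K := σ.comp (a.residueFieldMap (closedPoint C)).hom
  have hψfin : ψ.Finite := (RingHom.Finite.of_surjective σ hσ.2).comp hfin
  let ρ : C →+* K := residue C
  have hρ : Function.Surjective ρ := residue_surjective
  let ρ' : C' →+* K := ρ.comp π
  have hρ' : Function.Surjective ρ' := hρ.comp hπ
  let C₀ := ArtinSub.sub ρ ψ
  let C₀' := ArtinSub.sub ρ' ψ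
  have i1 : IsLocalRing C₀ := ArtinSub.isLocalRing_sub ρ ψ hρ
  have i2 : IsLocalRing C₀' := ArtinSub.isLocalRing_sub ρ' ψ hρ'
  have i3 : IsArtinianRing C₀ := ArtinSub.isArtinianRing_sub ρ ψ hρ hψfin
  have i4 : IsArtinianRing C₀' := ArtinSub.isArtinianRing_sub ρ' ψ hρ' hψfin
  have i5 : IsLocalHom C₀.subtype := ArtinSub.isLocalHom_subtype ρ ψ hρ
  let π₀ : C₀' →+* C₀ := (π.comp C₀'.subtype).codRestrict C₀ (fun x => x.2)
  have hπ₀ : Function.Surjective π₀ := by
    rintro ⟨y, hy⟩
    obtain ⟨x, rfl⟩ := hπ y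
    exact ⟨⟨x, hy⟩, rfl⟩
  have hpb : IsPullback (CommRingCat.ofHom π₀) (CommRingCat.ofHom C₀'.subtype)
      (CommRingCat.ofHom C₀.subtype) (CommRingCat.ofHom π) := by
    refine ⟨⟨?_⟩, ⟨Limits.PullbackCone.IsLimit.mk _ (fun s => CommRingCat.ofHom
      (s.snd.hom.codRestrict C₀' ?_)) ?_ ?_ ?_⟩⟩
    · rw [← CommRingCat.ofHom_comp, ← CommRingCat.ofHom_comp]; rfl
    · intro z
      have h1 : π (s.snd.hom z) = (s.fst.hom z : C₀) :=
        (RingHom.congr_fun (congrArg CommRingCat.Hom.hom s.condition) z).symm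
      change π (s.snd.hom z) ∈ C₀
      rw [h1]
      exact (s.fst.hom z : C₀).2
    · intro s
      ext z
      have h1 : π (s.snd.hom z) = (s.fst.hom z : C₀) :=
        (RingHom.congr_fun (congrArg CommRingCat.Hom.hom s.condition) z).symm
      exact h1
    · intro s; rfl
    · intro s m h1 h2
      ext z
      exact congr($h2 z)
  have hpo := isPushout_of_isPullback π₀ C₀'.subtype C₀.subtype π hπ hpb
  obtain ⟨a₀, ha₀⟩ := exists_fac C₀.subtype Subtype.coe_injective a (fun r => by
    have h1 := RingHom.congr_fun hσa r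
    refine ⟨⟨_, (ArtinSub.mem_sub ρ ψ).mpr ⟨_, h1.symm⟩⟩, rfl⟩)
  let b₀ : Spec (CommRingCat.of C₀') ⟶ S := hpo.desc b (a₀ ≫ g) (by
    rw [hab, ← Category.assoc, ha₀])
  have hb₀ : Spec.map (CommRingCat.ofHom C₀'.subtype) ≫ b₀ = b := hpo.inl_desc _ _ _
  have hb₀' : Spec.map (CommRingCat.ofHom π₀) ≫ b₀ = a₀ ≫ g := hpo.inr_desc _ _ _
  have hpt : a₀ (closedPoint C₀) = t := by
    have hc : Spec.map (CommRingCat.ofHom C₀.subtype) (closedPoint C : Spec (CommRingCat.of C)) = closedPoint C₀ :=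
      IsLocalRing.comap_closedPoint C₀.subtype
    rw [← ha, ← hc]
    exact congrArg (fun (f : Spec (CommRingCat.of C) ⟶ T) => f (closedPoint C : Spec (CommRingCat.of C))) ha₀
  have hres : Function.Surjective (a₀.residueFieldMap (closedPoint C₀)).hom := by
    -- the composite with the residue field map of `Spec C ⟶ Spec C₀`
    obtain ⟨σ₀, hσ₀, hσa₀⟩ := residue_comp a₀
    intro y
    obtain ⟨⟨c, hc⟩, hcy⟩ := residue_surjective (R := C₀) (σ₀ y)
    obtain ⟨r, hr⟩ := (ArtinSub.mem_sub ρ ψ).mp hc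
    obtain ⟨r', rfl⟩ := T.residue_surjective _ r
    have h2 : σ (a.residueFieldMap (closedPoint C) (T.residue _ r')) = residue C c := hr
    have h3 : residue C ((Scheme.stalkClosedPointTo a).hom r') = residue C c :=
      (RingHom.congr_fun hσa r').trans h2
    obtain ⟨U, hU, s, rfl⟩ := T.presheaf.exists_germ_eq r'
    have hU₀ : a₀ (closedPoint C₀) ∈ U := by rw [hpt, ← ha]; exact hU
    refine ⟨T.residue _ ((T.presheaf.germ U _ hU₀).hom s), hσ₀.1 ?_⟩
    have h4 := RingHom.congr_fun hσa₀ ((T.presheaf.germ U _ hU₀).hom s)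
    refine Eq.trans h4.symm (Eq.trans ?_ hcy)
    have h5 := germ_comp C₀.subtype a₀ a ha₀ U hU₀ hU s
    refine (Ideal.Quotient.eq).mpr ?_
    have h6 : IsUnit (C₀.subtype ((Scheme.stalkClosedPointTo a₀).hom ((T.presheaf.germ U _ hU₀).hom s) - ⟨c, hc⟩)) →
        False := by
      intro h7
      rw [map_sub, h5] at h7
      have h8 : (Scheme.stalkClosedPointTo a).hom ((T.presheaf.germ U _ hU).hom s) - c ∈ maximalIdeal C := by
        rw [← residue_eq_zero_iff, map_sub, sub_eq_zero]
        exact h3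
      exact h8 h7
    exact fun h7 => h6 (h7.map C₀.subtype)
  obtain ⟨c₀, hc₀, hc₀'⟩ := hT C₀ C₀' π₀ hπ₀ a₀ b₀ hpt hres hb₀'
  refine ⟨Spec.map (CommRingCat.ofHom C₀'.subtype) ≫ c₀, ?_, ?_⟩
  · rw [← Category.assoc, hpo.w, Category.assoc, hc₀, ha₀]
  · rw [Category.assoc, hc₀', hb₀]

end K147.ArtinVersal
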