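import Groth.Agent.S2121
import Groth.Agent.UnramB.GenFibConn
import Mathlib.RingTheory.LocalProperties.Reduced
import Mathlib.RingTheory.Localization.BaseChange
import Mathlib.AlgebraicGeometry.Noetherian

/-!
# Connectedness of the complement of a closed subset, from the local rings

* `isConnected_compl`: on a connected locally Noetherian scheme, if for all `x ∈ T` the complement of `T`
  in `Spec 𝒪_{X,x}` is connected, then the complement of `T` is connected.
-/

set_option autoImplicit false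
universe u

open CategoryTheory AlgebraicGeometry TopologicalSpace

namespace K147.HartConn

/-- In a locally Noetherian scheme a point of the closure of an open set is a specialization of a point
of this set. -/
theorem exists_specializes_of_mem_closure {X : Scheme.{u}} [IsLocallyNoetherian X] (U : X.Opens)
    (x : X) (hx : x ∈ closure (U : Set X)) : ∃ ξ ∈ U, ξ ⤳ x := by
  obtain ⟨t, ht⟩ := Groth.Agent.S2121.exists_specializes U.ι x (by rwa [Scheme.Opens.range_ι])
  exact ⟨_, t.2, ht⟩

theorem isConnected_compl {X : Scheme.{u}} [IsLocallyNoetherian X] [ConnectedSpace X]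
    (T : Set X) (hT : IsClosed T)
    (h : ∀ x ∈ T, _root_.IsConnected ((X.fromSpecStalk x) ⁻¹' Tᶜ)) : _root_.IsConnected Tᶜ := by
  have hdense : closure Tᶜ = Set.univ := by
    rw [Set.eq_univ_iff_forall]
    intro x
    by_cases hx : x ∈ T
    · obtain ⟨p, hp⟩ := (h x hx).nonempty
      have h1 : X.fromSpecStalk x p ⤳ x := by
        have h2 : X.fromSpecStalk x p ∈ Set.range (X.fromSpecStalk x) := ⟨p, rfl⟩
        rwa [Scheme.range_fromSpecStalk] at h2
      exact h1.mem_closed isClosed_closure (subset_closure hp)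
    · exact subset_closure hx
  have hne : (Tᶜ : Set X).Nonempty := by
    rw [Set.nonempty_iff_ne_empty]
    intro h0
    rw [h0, closure_empty] at hdense
    exact Set.empty_ne_univ hdense
  refine ⟨hne, ?_⟩
  intro u v hu hv huv hsu hsv
  by_contra hcon
  rw [Set.not_nonempty_iff_eq_empty] at hcon
  have hTo : IsOpen (Tᶜ : Set X) := hT.isOpen_compl
  let U₁ : X.Opens := ⟨Tᶜ ∩ u, hTo.inter hu⟩
  let U₂ : X.Opens := ⟨Tᶜ ∩ v, hTo.inter hv⟩
  have hcov : closure (U₁ : Set X) ∪ closure (U₂ : Set X) = Set.univ := by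
    rw [← closure_union, ← hdense]
    congr 1
    change (Tᶜ ∩ u) ∪ (Tᶜ ∩ v) = Tᶜ
    rw [← Set.inter_union_distrib_left, Set.inter_eq_left]
    exact huv
  have hpre : _root_.IsPreconnected (Set.univ : Set X) := isPreconnected_univ
  rw [isPreconnected_closed_iff] at hpre
  obtain ⟨x, -, hx1, hx2⟩ := hpre _ _ isClosed_closure isClosed_closure hcov.ge
    (by
      obtain ⟨z, hz⟩ := hsu
      exact ⟨z, trivial, subset_closure hz⟩)
    (by
      obtain ⟨z, hz⟩ := hsv
      exact ⟨z, trivial, subset_closure hz⟩)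
  by_cases hxT : x ∈ T
  · have h1 := (h x hxT).isPreconnected
    have key : ∀ U : X.Opens, x ∈ closure (U : Set X) → ((X.fromSpecStalk x) ⁻¹' (U : Set X)).Nonempty := by
      intro U hxU
      obtain ⟨ξ, hξ, hsp⟩ := exists_specializes_of_mem_closure U x hxU
      have h2 : ξ ∈ Set.range (X.fromSpecStalk x) := by
        rw [Scheme.range_fromSpecStalk]
        exact hsp
      obtain ⟨p, rfl⟩ := h2
      exact ⟨p, hξ⟩
    obtain ⟨p, hp1, hp2, hp3⟩ := h1 ((X.fromSpecStalk x) ⁻¹' u) ((X.fromSpecStalk x) ⁻¹' v)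
      (hu.preimage (X.fromSpecStalk x).continuous) (hv.preimage (X.fromSpecStalk x).continuous)
      (fun p hp => huv hp) (key U₁ hx1) (key U₂ hx2)
    have h3 : X.fromSpecStalk x p ∈ Tᶜ ∩ (u ∩ v) := ⟨hp1, hp2, hp3⟩
    rw [hcon] at h3
    exact h3
  · rcases huv hxT with hxu | hxv
    · obtain ⟨z, hz1, hz2⟩ := mem_closure_iff.1 hx2 U₁ U₁.2 ⟨hxT, hxu⟩
      have h3 : z ∈ Tᶜ ∩ (u ∩ v) := ⟨hz1.1, hz1.2, hz2.2⟩
      rw [hcon] at h3
      exact h3
    · obtain ⟨z, hz1, hz2⟩ := mem_closure_iff.1 hx1 U₂ U₂.2 ⟨hxT, hxv⟩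
      have h3 : z ∈ Tᶜ ∩ (u ∩ v) := ⟨hz1.1, hz2.2, hz1.2⟩
      rw [hcon] at h3
      exact h3

/-- The inverse image in `Spec 𝒪_{Y,y}` of a closed nowhere dense subset is nowhere dense. -/
theorem interior_preimage_fromSpecStalk {Y : Scheme.{u}} [IsLocallyNoetherian Y] (y : Y) (C : Set Y)
    (hC : IsClosed C) (hC' : interior C = ∅) : interior ((Y.fromSpecStalk y) ⁻¹' C) = ∅ := by
  rw [Set.eq_empty_iff_forall_notMem]
  intro w hw
  let A := Y.presheaf.stalk y
  obtain ⟨p, hpmin, hpw⟩ : ∃ p : Spec A, p ∈ interior ((Y.fromSpecStalk y) ⁻¹' C) ∧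
      ∀ p' : Spec A, p' ⤳ p → p' = p := by
    obtain ⟨P, hP, hle⟩ := Ideal.exists_minimalPrimes_le (I := ⊥) (J := w.asIdeal) bot_le
    have hPp : P.IsPrime := hP.1.1
    let p : Spec A := ⟨P, hPp⟩
    have hsp : p ⤳ w := (PrimeSpectrum.le_iff_specializes p w).1 hle
    refine ⟨p, hsp.mem_open isOpen_interior hw, fun p' hp' => ?_⟩
    have h1 : p'.asIdeal ≤ P := (PrimeSpectrum.le_iff_specializes p' p).2 hp'
    exact PrimeSpectrum.ext (le_antisymm h1 (hP.2 ⟨p'.2, bot_le⟩ h1))
  have hpC : p ∈ (Y.fromSpecStalk y) ⁻¹' C := interior_subset hpmin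
  have hcl : Y.fromSpecStalk y p ∈ closure (Cᶜ : Set Y) := by
    rw [closure_compl, hC', Set.compl_empty]
    trivial
  obtain ⟨ξ, hξ, hsp⟩ := exists_specializes_of_mem_closure ⟨Cᶜ, hC.isOpen_compl⟩ _ hcl
  have hy : Y.fromSpecStalk y p ⤳ y := by
    have h2 : Y.fromSpecStalk y p ∈ Set.range (Y.fromSpecStalk y) := ⟨p, rfl⟩
    rwa [Scheme.range_fromSpecStalk] at h2
  have h3 : ξ ∈ Set.range (Y.fromSpecStalk y) := by
    rw [Scheme.range_fromSpecStalk]
    exact hsp.trans hy
  obtain ⟨p', rfl⟩ := h3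
  have h4 : p' ⤳ p := (Y.fromSpecStalk y).isEmbedding.toIsInducing.specializes_iff.1 hsp
  rw [hpw p' h4] at hξ
  exact hξ hpC

open TensorProduct in
theorem isReduced_tensor_localization {R S A B : Type u} [CommRing R] [CommRing S] [CommRing A]
    [CommRing B] [Algebra R S] [Algebra R A] [Algebra S B] [Algebra A B] [Algebra R B]
    [IsScalarTower R A B] [IsScalarTower R S B] (M : Submonoid R) [IsLocalization M A]
    (N : Submonoid S) [IsLocalization N B] (F : Type u) [Field F] [Algebra R F] [Algebra A F]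
    [IsScalarTower R A F] [hred : _root_.IsReduced (F ⊗[R] S)] : _root_.IsReduced (F ⊗[A] B) := by
  let e1 : F ⊗[A] B ≃ₐ[A] F ⊗[R] B := IsLocalization.algebraTensorEquiv M A F B
  let e2 : F ⊗[R] B ≃ₐ[F] Localization (N.map (Algebra.TensorProduct.includeRight (R := R) (A := F)
      (B := S))) := IsLocalization.tensorProductEquivOfMapIncludeRight R F N B _
  have h : _root_.IsReduced (Localization (N.map (Algebra.TensorProduct.includeRight (R := R) (A := F)
      (B := S)))) := inferInstance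
  exact isReduced_of_injective (e2.toRingHom.comp e1.toRingHom)
    (e2.injective.comp e1.injective)

theorem geometricallyReduced_comp {X Y S : Scheme.{u}} (i : X ⟶ Y) [IsOpenImmersion i] (f : Y ⟶ S)
    [GeometricallyReduced f] : GeometricallyReduced (i ≫ f) := by
  refine ⟨fun K _ y Z fst snd hZ => ?_⟩
  have h1 := IsPullback.of_hasPullback f y
  obtain ⟨c, h2⟩ : ∃ c, IsPullback fst c i (Limits.pullback.fst f y) := ⟨_, hZ.of_bot' h1⟩
  have h3 : IsOpenImmersion c := MorphismProperty.of_isPullback h2 inferInstance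
  have h4 : IsReduced (Limits.pullback f y) := GeometricallyReduced.geometrically_isReduced _ _ _ h1
  exact isReduced_of_isOpenImmersion c

theorem geometricallyReduced_of_comp_mono {X Y S : Scheme.{u}} (f : X ⟶ Y) (m : Y ⟶ S) [Mono m]
    [h : GeometricallyReduced (f ≫ m)] : GeometricallyReduced f := by
  have h1 : IsPullback (𝟙 X) f (f ≫ m) m := by
    refine ⟨⟨Category.id_comp _⟩, ⟨Limits.PullbackCone.IsLimit.mk _ (fun s => s.fst)
      (fun s => Category.comp_id _) (fun s => ?_) (fun s l h₁ h₂ => ?_)⟩⟩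
    · rw [← cancel_mono m, Category.assoc]
      exact s.condition
    · simpa using h₁
  exact MorphismProperty.of_isPullback h1 h

open TensorProduct in
theorem isReduced_tensor_stalk {X Y : Scheme.{u}} (f : X ⟶ Y) [GeometricallyReduced f] (x : X)
    (F : Type u) [Field F] [Algebra (Y.presheaf.stalk (f x)) F]
    [Algebra (Y.presheaf.stalk (f x)) (X.presheaf.stalk x)]
    (halg : algebraMap (Y.presheaf.stalk (f x)) (X.presheaf.stalk x) = (f.stalkMap x).hom) :
    _root_.IsReduced (F ⊗[Y.presheaf.stalk (f x)] X.presheaf.stalk x) := by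
  obtain ⟨V, hV, hyV, -⟩ := exists_isAffineOpen_mem_and_subset (U := ⊤) (x := f x) trivial
  obtain ⟨U, hU, hxU, e⟩ := exists_isAffineOpen_mem_and_subset (U := f ⁻¹ᵁ V) (x := x) hyV
  let R := Γ(Y, V)
  let S := Γ(X, U)
  let A := Y.presheaf.stalk (f x)
  let B := X.presheaf.stalk x
  let _ : Algebra R S := (f.appLE V U e).hom.toAlgebra
  let _ : Algebra R A := (Y.presheaf.germ V (f x) hyV).hom.toAlgebra
  let _ : Algebra S B := (X.presheaf.germ U x hxU).hom.toAlgebra
  let _ : Algebra R B := ((algebraMap S B).comp (algebraMap R S)).toAlgebra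
  let _ : Algebra R F := ((algebraMap A F).comp (algebraMap R A)).toAlgebra
  have h1 : IsScalarTower R S B := IsScalarTower.of_algebraMap_eq fun _ => rfl
  have h2 : IsScalarTower R A F := IsScalarTower.of_algebraMap_eq fun _ => rfl
  have h3 : IsScalarTower R A B := by
    refine IsScalarTower.of_algebraMap_eq fun r => ?_
    rw [halg]
    change (X.presheaf.germ U x hxU).hom ((f.appLE V U e).hom r) =
      (f.stalkMap x).hom ((Y.presheaf.germ V (f x) hyV).hom r)
    have h4 : f.appLE V U e ≫ X.presheaf.germ U x hxU =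
        Y.presheaf.germ V (f x) hyV ≫ f.stalkMap x := by
      rw [Scheme.Hom.germ_stalkMap, Scheme.Hom.appLE, Category.assoc, TopCat.Presheaf.germ_res]
    exact congrArg (fun φ => φ.hom r) h4
  have h5 : IsLocalization (hV.primeIdealOf ⟨f x, hyV⟩).asIdeal.primeCompl A :=
    hV.isLocalization_stalk ⟨f x, hyV⟩
  have h6 : IsLocalization (hU.primeIdealOf ⟨x, hxU⟩).asIdeal.primeCompl B :=
    hU.isLocalization_stalk ⟨x, hxU⟩
  have h7 : GeometricallyReduced (Spec.map (CommRingCat.ofHom (algebraMap R S))) := by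
    have h8 : GeometricallyReduced (Spec.map (f.appLE V U e) ≫ hV.fromSpec) := by
      rw [IsAffineOpen.SpecMap_appLE_fromSpec f hV hU e]
      exact geometricallyReduced_comp _ _
    exact geometricallyReduced_of_comp_mono (Spec.map (f.appLE V U e)) hV.fromSpec
  have h9 : _root_.IsReduced (F ⊗[R] S) := Groth.Agent.UnramB.IdemGeom.isReduced_tensor R S F
  exact isReduced_tensor_localization (R := R) (S := S) (A := A) (B := B)
    (hV.primeIdealOf ⟨f x, hyV⟩).asIdeal.primeCompl (hU.primeIdealOf ⟨x, hxU⟩).asIdeal.primeCompl F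

end K147.HartConn
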