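import Groth.Agent.Unram.K147.PuncInt
import Groth.Agent.UnramB.GenFibConn
import Mathlib.RingTheory.Flat.Basic

/-!
# Connectedness of the complement of a closed subset of the closed fibre

Let `A` be a Noetherian local domain of dimension at least two which is geometrically unibranch, and
`A → B` a flat local homomorphism. Then the complement of any closed subset of the closed fibre of
`Spec B → Spec A` is connected (`isConnected_compl`).
-/

set_option autoImplicit false

open TensorProduct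

namespace K147.PuncFib

theorem mem_range_of_forall_smul {A : Type*} [CommRing A] {M B : Type*} [AddCommGroup M] [Module A M]
    [AddCommGroup B] [Module A B] [Module.Flat A B]
    (M' : Submodule A M) (𝔞 : Ideal A) (h𝔞 : 𝔞.FG) (e : M ⊗[A] B)
    (he : ∀ a ∈ 𝔞, a • e ∈ LinearMap.range (M'.subtype.rTensor B)) (D : Submodule A M)
    (hD : ∀ s : M, (∀ a ∈ 𝔞, a • s ∈ M') → s ∈ D) :
    e ∈ LinearMap.range (D.subtype.rTensor B) := by
  obtain ⟨S, hS⟩ := h𝔞
  let ψ : M →ₗ[A] (S → M ⧸ M') := LinearMap.pi fun j => (j : A) • M'.mkQ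
  have hex : Function.Exact (LinearMap.ker ψ).subtype ψ := LinearMap.exact_subtype_ker_map ψ
  have hex' := Module.Flat.rTensor_exact B hex
  have h1 : ψ.rTensor B e = 0 := by
    have h2 : ∀ j : S, (LinearMap.proj j : (S → M ⧸ M') →ₗ[A] M ⧸ M').rTensor B (ψ.rTensor B e) = 0 := by
      intro j
      rw [← LinearMap.comp_apply, ← LinearMap.rTensor_comp]
      have h3 : (LinearMap.proj j : (S → M ⧸ M') →ₗ[A] M ⧸ M') ∘ₗ ψ = (j : A) • M'.mkQ :=
        LinearMap.ext fun x => rfl
      rw [h3, LinearMap.rTensor_smul, LinearMap.smul_apply, ← map_smul]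
      obtain ⟨z, hz⟩ := he j (hS ▸ Ideal.subset_span j.2)
      rw [← hz, ← LinearMap.comp_apply, ← LinearMap.rTensor_comp]
      have h4 : M'.mkQ ∘ₗ M'.subtype = 0 := LinearMap.ext fun x => by simp
      rw [h4, LinearMap.rTensor_zero, LinearMap.zero_apply]
    have h3 : ∀ z : (S → M ⧸ M') ⊗[A] B, (∀ j : S,
        (LinearMap.proj j : (S → M ⧸ M') →ₗ[A] M ⧸ M').rTensor B z = 0) → z = 0 := by
      classical
      intro z hz
      have h4 : (LinearMap.id : (S → M ⧸ M') →ₗ[A] (S → M ⧸ M')) =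
          ∑ j : S, LinearMap.single A (fun _ => M ⧸ M') j ∘ₗ LinearMap.proj j := by
        refine LinearMap.ext fun x => ?_
        rw [LinearMap.sum_apply]
        exact (LinearMap.sum_single_apply (φ := fun _ : S => M ⧸ M') x).symm
      have h5 : z = (LinearMap.id : (S → M ⧸ M') →ₗ[A] (S → M ⧸ M')).rTensor B z := by
        rw [LinearMap.rTensor_id, LinearMap.id_apply]
      have h6 := map_sum (LinearMap.rTensorHom (R := A) (N := S → M ⧸ M') (P := S → M ⧸ M') B)
        (fun j : S => LinearMap.single A (fun _ => M ⧸ M') j ∘ₗ LinearMap.proj j) Finset.univ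
      rw [h5, h4]
      refine (congrArg (fun φ => φ z) h6).trans ?_
      rw [LinearMap.sum_apply]
      refine Finset.sum_eq_zero fun j _ => ?_
      change (LinearMap.single A (fun _ => M ⧸ M') j ∘ₗ LinearMap.proj j).rTensor B z = 0
      rw [LinearMap.rTensor_comp, LinearMap.comp_apply, hz j, map_zero]
    exact h3 _ h2
  obtain ⟨z, hz⟩ := (hex' e).1 h1
  have h2 : LinearMap.ker ψ ≤ D := by
    intro s hs
    refine hD s fun a ha => ?_
    rw [← hS] at ha
    have h3 : ∀ j : S, (j : A) • s ∈ M' := by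
      intro j
      have h4 := congrFun (show ψ s = 0 from hs) j
      rw [← Submodule.Quotient.mk_eq_zero, Submodule.Quotient.mk_smul]
      exact h4
    refine Submodule.span_induction (p := fun a _ => a • s ∈ M') ?_ ?_ ?_ ?_ ha
    · intro x hx
      exact h3 ⟨x, hx⟩
    · rw [zero_smul]; exact M'.zero_mem
    · intro x y _ _ hx hy
      rw [add_smul]
      exact M'.add_mem hx hy
    · intro c x _ hx
      rw [smul_assoc]
      exact M'.smul_mem c hx
  refine ⟨(Submodule.inclusion h2).rTensor B z, ?_⟩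
  rw [← LinearMap.comp_apply, ← LinearMap.rTensor_comp]
  exact hz

/-- The idempotent of `K ⊗ B` defined by an open and closed decomposition of the complement of a closed
subset of the closed fibre of `Spec B → Spec A` comes from `A' ⊗ B`. -/
theorem exists_idempotent {A B K : Type*} [CommRing A] [IsNoetherianRing A] [IsLocalRing A]
    [CommRing B] [Algebra A B] [Module.Flat A B] [Field K] [Algebra A K] [IsFractionRing A K]
    (A' : Submodule A K)
    (hA' : ∀ s : K, (∀ a ∈ IsLocalRing.maximalIdeal A, ∃ (n : ℕ) (b : A),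
      algebraMap A K a ^ n * s = algebraMap A K b) → s ∈ A')
    (W : Set (PrimeSpectrum B)) (hW : IsOpen W)
    (hW' : ∀ f ∈ IsLocalRing.maximalIdeal A, ∃ W₂ : Set (PrimeSpectrum B), IsOpen W₂ ∧
      W ∩ W₂ ∩ PrimeSpectrum.basicOpen (algebraMap A B f) = ∅ ∧
      (PrimeSpectrum.basicOpen (algebraMap A B f) : Set (PrimeSpectrum B)) ⊆ W ∪ W₂)
    (hclopen : IsClopen (PrimeSpectrum.comap
      (Algebra.TensorProduct.includeRight : B →ₐ[A] K ⊗[A] B).toRingHom ⁻¹' W)) :
    ∃ e : K ⊗[A] B, IsIdempotentElem e ∧ e ∈ LinearMap.range (A'.subtype.rTensor B) ∧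
      PrimeSpectrum.comap
        (Algebra.TensorProduct.includeRight : B →ₐ[A] K ⊗[A] B).toRingHom ⁻¹' W =
        PrimeSpectrum.basicOpen e := by
  obtain ⟨e, he, heW⟩ := PrimeSpectrum.exists_idempotent_basicOpen_eq_of_isClopen hclopen
  refine ⟨e, he, ?_, heW⟩
  let L := K ⊗[A] B
  let ι : B →ₐ[A] L := Algebra.TensorProduct.includeRight
  let M' : Submodule A K := LinearMap.range (Algebra.linearMap A K)
  -- elements of `M' ⊗ B`
  have hM' : ∀ b : B, ι b ∈ LinearMap.range (M'.subtype.rTensor B) := fun b =>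
    ⟨(⟨1, ⟨1, map_one (algebraMap A K)⟩⟩ : M') ⊗ₜ b, rfl⟩
  have hpow : ∀ f ∈ IsLocalRing.maximalIdeal A, ∃ (n : ℕ) (b : B), f ^ n • e = ι b := by
    intro f hf
    by_cases hf0 : f = 0
    · exact ⟨1, 0, by rw [hf0, pow_one, zero_smul, map_zero]⟩
    obtain ⟨W₂, hW₂, hdisj, hcov⟩ := hW' f hf
    let fB := algebraMap A B f
    let Bf := Localization.Away fB
    have hfK : IsUnit (algebraMap A K f) := by
      rw [isUnit_iff_ne_zero]
      intro h
      exact hf0 (IsFractionRing.injective A K (by rw [h, map_zero]))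
    have hfL : IsUnit (ι fB) := by
      have h1 : ι fB = (Algebra.TensorProduct.includeLeft : K →ₐ[A] L) (algebraMap A K f) :=
        (ι.commutes f).trans ((Algebra.TensorProduct.includeLeft : K →ₐ[A] L).commutes f).symm
      rw [h1]
      exact hfK.map (Algebra.TensorProduct.includeLeft : K →ₐ[A] L)
    let h : Bf →+* L := IsLocalization.Away.lift fB (g := ι.toRingHom) hfL
    have hh : h.comp (algebraMap B Bf) = ι.toRingHom := IsLocalization.Away.lift_comp fB hfL
    have hclopen' : IsClopen (PrimeSpectrum.comap (algebraMap B Bf) ⁻¹' W) := by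
      refine ⟨?_, hW.preimage (PrimeSpectrum.continuous_comap _)⟩
      have h1 : PrimeSpectrum.comap (algebraMap B Bf) ⁻¹' W =
          (PrimeSpectrum.comap (algebraMap B Bf) ⁻¹' W₂)ᶜ := by
        ext q
        have hq : PrimeSpectrum.comap (algebraMap B Bf) q ∈ PrimeSpectrum.basicOpen fB := by
          change fB ∉ q.asIdeal.comap (algebraMap B Bf)
          intro hmem
          exact q.2.ne_top (Ideal.eq_top_of_isUnit_mem _ hmem
            (IsLocalization.Away.algebraMap_isUnit fB))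
        constructor
        · intro h1 h2
          have h3 : PrimeSpectrum.comap (algebraMap B Bf) q ∈
              W ∩ W₂ ∩ PrimeSpectrum.basicOpen fB := ⟨⟨h1, h2⟩, hq⟩
          rw [hdisj] at h3
          exact h3
        · intro h2
          exact (hcov hq).resolve_right h2
      rw [h1]
      exact (hW₂.preimage (PrimeSpectrum.continuous_comap _)).isClosed_compl
    obtain ⟨e', he', heW'⟩ := PrimeSpectrum.exists_idempotent_basicOpen_eq_of_isClopen hclopen'
    have hee' : h e' = e := by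
      refine PrimeSpectrum.basicOpen_injOn_isIdempotentElem (he'.map h) he ?_
      apply TopologicalSpace.Opens.ext
      rw [← heW]
      have h1 : (PrimeSpectrum.basicOpen (h e') : Set (PrimeSpectrum L)) =
          PrimeSpectrum.comap h ⁻¹' (PrimeSpectrum.basicOpen e') := rfl
      rw [h1, ← heW', ← Set.preimage_comp]
      have h2 : PrimeSpectrum.comap (algebraMap B Bf) ∘ PrimeSpectrum.comap h =
          PrimeSpectrum.comap ι.toRingHom := by
        rw [← hh]
        rfl
      rw [h2]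
    obtain ⟨⟨b, ⟨_, n, rfl⟩⟩, hb⟩ := IsLocalization.surj (Submonoid.powers fB) e'
    refine ⟨n, b, ?_⟩
    have h1 := congrArg h hb
    rw [map_mul, hee'] at h1
    have h2 : ∀ b : B, h (algebraMap B Bf b) = ι b := fun b => DFunLike.congr_fun hh b
    rw [h2, h2] at h1
    rw [← h1, map_pow, Algebra.smul_def, mul_comm]
    congr 1
    rw [map_pow]
    congr 1
    exact (ι.commutes f).symm
  -- the ideal of denominators
  let 𝔞 : Ideal A :=
    { carrier := {a | ∃ b : B, a • e = ι b}
      zero_mem' := ⟨0, by rw [zero_smul, map_zero]⟩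
      add_mem' := by
        rintro x y ⟨b, hb⟩ ⟨b', hb'⟩
        exact ⟨b + b', by rw [add_smul, hb, hb', map_add]⟩
      smul_mem' := by
        rintro c x ⟨b, hb⟩
        exact ⟨c • b, by rw [smul_assoc, hb, map_smul]⟩ }
  refine mem_range_of_forall_smul M' 𝔞 (IsNoetherian.noetherian 𝔞) e ?_ A' ?_
  · rintro a ⟨b, hb⟩
    rw [hb]
    exact hM' b
  · intro s hs
    refine hA' s fun a ha => ?_
    obtain ⟨n, b, hb⟩ := hpow a ha
    obtain ⟨c, hc⟩ := hs (a ^ n) ⟨b, hb⟩
    refine ⟨n, c, ?_⟩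
    rw [← map_pow, ← Algebra.smul_def]
    exact hc.symm

theorem exists_prime_between {A : Type*} [CommRing A] [IsLocalRing A] (hdim : 2 ≤ ringKrullDim A) :
    ∃ p : Ideal A, p.IsPrime ∧ p ≠ ⊥ ∧ p < IsLocalRing.maximalIdeal A := by
  have h1 : ((2 : ℕ) : WithBot ℕ∞) ≤ ringKrullDim A := hdim
  obtain ⟨l, hl⟩ := Order.le_krullDim_iff.1 h1
  have h01 : l ⟨0, by omega⟩ < l ⟨1, by omega⟩ := l.strictMono (Fin.mk_lt_mk.2 (by omega))
  have h12 : l ⟨1, by omega⟩ < l ⟨2, by omega⟩ := l.strictMono (Fin.mk_lt_mk.2 (by omega))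
  refine ⟨(l ⟨1, by omega⟩).asIdeal, (l ⟨1, by omega⟩).2, ?_, ?_⟩
  · intro h
    have h2 : (l ⟨0, by omega⟩).asIdeal < (l ⟨1, by omega⟩).asIdeal := h01
    rw [h] at h2
    exact not_lt_bot h2
  · exact lt_of_lt_of_le (show (l ⟨1, by omega⟩).asIdeal < (l ⟨2, by omega⟩).asIdeal from h12)
      (IsLocalRing.le_maximalIdeal (l ⟨2, by omega⟩).2.ne_top)

universe u

/-- The complement of a closed subset of the closed fibre is connected. -/
theorem isConnected_compl {A B : Type u} [CommRing A] [IsDomain A] [IsLocalRing A]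
    [IsNoetherianRing A] [CommRing B] [IsLocalRing B] [Algebra A B] [IsLocalHom (algebraMap A B)]
    [Module.Flat A B] (hA : CAlg2.IsGeomUnibranch A) (hdim : 2 ≤ ringKrullDim A)
    (T : Set (PrimeSpectrum B)) (hT : IsClosed T)
    (hTm : ∀ q ∈ T, PrimeSpectrum.comap (algebraMap A B) q = IsLocalRing.closedPoint A) :
    IsConnected Tᶜ := by
  obtain ⟨p, hp, hp0, hpm⟩ := exists_prime_between hdim
  have hdom : IsDomain (CAlg2.red A) := hA.1.1
  let K := FractionRing (CAlg2.red A)
  have hloc : IsLocalRing (CAlg2.normRed A) := hA.1.2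
  have hic : IsIntegralClosure (CAlg2.normRed A) A K := by
    refine ⟨Subtype.val_injective, fun {x} => ?_⟩
    have h1 : IsIntegral A x ↔ IsIntegral (CAlg2.red A) x :=
      ⟨fun h => h.tower_top, fun h => isIntegral_trans x h⟩
    rw [h1]
    exact IsIntegralClosure.isIntegral_iff (R := CAlg2.red A) (A := CAlg2.normRed A)
  have : Algebra.IsIntegral A (CAlg2.normRed A) :=
    IsIntegralClosure.isIntegral_algebra A (FractionRing (CAlg2.red A))
  have : IsLocalHom (algebraMap A (CAlg2.normRed A)) := 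
    Groth.Agent.UnramB.IdemConn.isLocalHom_of_isIntegral _ _
  have := Groth.Agent.UnramB.GenFibConn.isPurelyInseparable_of_isGeomUnibranch hA
  have hinjr : Function.Injective (algebraMap A (CAlg2.red A)) := by
    rw [RingHom.injective_iff_ker_eq_bot]
    exact Ideal.mk_ker.trans (nilradical_eq_zero A)
  have hinjK : Function.Injective (algebraMap A K) :=
    (IsFractionRing.injective (CAlg2.red A) K).comp hinjr
  have hfs : FaithfulSMul A K := (faithfulSMul_iff_algebraMap_injective A K).2 hinjK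
  have hfrac : IsFractionRing A K := by
    refine IsFractionRing.of_field A K fun z => ?_
    obtain ⟨x, y, -, rfl⟩ := IsFractionRing.div_surjective (A := CAlg2.red A) z
    obtain ⟨x, rfl⟩ := Ideal.Quotient.mk_surjective x
    obtain ⟨y, rfl⟩ := Ideal.Quotient.mk_surjective y
    exact ⟨x, y, rfl⟩
  let A₀ : Subalgebra A K := integralClosure A K
  let e₀ : A₀ ≃ₐ[A] CAlg2.normRed A := IsIntegralClosure.equiv A (integralClosure A K) K _
  have hA₀loc : IsLocalRing A₀ := e₀.symm.toRingEquiv.isLocalRing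
  have hdim' : ∀ M : Ideal (integralClosure A K), M.IsMaximal →
      ∃ N : Ideal (integralClosure A K), N.IsPrime ∧ N ≠ ⊥ ∧ N < M := by
    intro M hM
    have hinj₀ : Function.Injective (algebraMap A A₀) := fun x y hxy => hinjK (congrArg Subtype.val hxy)
    obtain ⟨N, -, hN, hNp⟩ := Ideal.exists_ideal_over_prime_of_isIntegral (R := A) (S := A₀) p ⊥ (by
      rw [← RingHom.ker_eq_comap_bot, (RingHom.injective_iff_ker_eq_bot _).1 hinj₀]
      exact bot_le)
    refine ⟨N, hN, ?_, ?_⟩
    · rintro rfl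
      rw [← RingHom.ker_eq_comap_bot, (RingHom.injective_iff_ker_eq_bot _).1 hinj₀] at hNp
      exact hp0 hNp.symm
    · have hNM : N ≤ M := by
        rw [IsLocalRing.eq_maximalIdeal hM]
        exact IsLocalRing.le_maximalIdeal hN.ne_top
      refine lt_of_le_of_ne hNM ?_
      rintro rfl
      have h1 : (N.comap (algebraMap A A₀)).IsMaximal :=
        Ideal.isMaximal_comap_of_isIntegral_of_isMaximal N
      rw [hNp] at h1
      exact hpm.ne (IsLocalRing.eq_maximalIdeal h1)
  have hint : ∀ s : K, (∀ a ∈ IsLocalRing.maximalIdeal A, ∃ (n : ℕ) (b : A),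
      algebraMap A K a ^ n * s = algebraMap A K b) → s ∈ Subalgebra.toSubmodule A₀ := fun s hs =>
    PuncInt.isIntegral_of_pow_mul hdim' s hs
  let L := K ⊗[A] B
  let ι : B →ₐ[A] L := Algebra.TensorProduct.includeRight
  -- primes of `L` lie over the generic point
  have hgen : ∀ Q : PrimeSpectrum L, PrimeSpectrum.comap ι.toRingHom Q ∉ T := by
    intro Q hQ
    have h1 := hTm _ hQ
    have h2 : ∀ a : A, a ∈ IsLocalRing.maximalIdeal A → a = 0 := by
      intro a ha
      by_contra ha0
      have h3 : a ∈ (PrimeSpectrum.comap (algebraMap A B)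
          (PrimeSpectrum.comap ι.toRingHom Q)).asIdeal := by
        rw [h1]
        exact ha
      have h4 : ι (algebraMap A B a) ∈ Q.asIdeal := h3
      have h5 : ι (algebraMap A B a) =
          (Algebra.TensorProduct.includeLeft : K →ₐ[A] L) (algebraMap A K a) :=
        (ι.commutes a).trans ((Algebra.TensorProduct.includeLeft : K →ₐ[A] L).commutes a).symm
      have h6 : IsUnit (ι (algebraMap A B a)) := by
        rw [h5]
        exact (isUnit_iff_ne_zero.2 fun h => ha0 (hinjK (by rw [h, map_zero]))).map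
          (Algebra.TensorProduct.includeLeft : K →ₐ[A] L)
      exact Q.2.ne_top (Ideal.eq_top_of_isUnit_mem _ h4 h6)
    obtain ⟨x, hx, hx0⟩ := Submodule.exists_mem_ne_zero_of_ne_bot hp0
    exact hx0 (h2 x (hpm.le hx))
  -- every point generalizes to a point of the generic fibre
  have hdense : ∀ q : PrimeSpectrum B, ∃ Q : PrimeSpectrum L, PrimeSpectrum.comap ι.toRingHom Q ⤳ q := by
    intro q
    obtain ⟨q₀, hq₀, hq₀p, hq₀l⟩ := Ideal.exists_ideal_le_liesOver_of_le (R := A) (S := B)
      (p := (⊥ : Ideal A)) (q := q.asIdeal.under A) q.asIdeal bot_le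
    have hq₀A : RingHom.ker (algebraMap A q₀.ResidueField) = ⊥ := by
      rw [IsScalarTower.algebraMap_eq A B q₀.ResidueField, ← RingHom.comap_ker,
        Ideal.ker_algebraMap_residueField]
      exact hq₀l.over.symm
    have hf₀ : Function.Injective (Algebra.ofId A q₀.ResidueField) :=
      (RingHom.injective_iff_ker_eq_bot _).2 hq₀A
    let f : K →ₐ[A] q₀.ResidueField := IsFractionRing.liftAlgHom (K := K) hf₀
    obtain ⟨Q, hQ⟩ := Groth.Agent.UnramB.GenFibConn.mem_range_comap (⟨q₀, hq₀p⟩ : PrimeSpectrum B) f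
    refine ⟨Q, ?_⟩
    have hspec : (⟨q₀, hq₀p⟩ : PrimeSpectrum B) ⤳ q := by
      rw [← PrimeSpectrum.le_iff_specializes]
      exact hq₀
    rw [← hQ] at hspec
    exact hspec
  refine ⟨?_, ?_⟩
  · obtain ⟨Q, -⟩ := hdense (IsLocalRing.closedPoint B)
    exact ⟨_, hgen Q⟩
  intro u v hu hv huv hsu hsv
  by_contra hcon
  rw [Set.not_nonempty_iff_eq_empty] at hcon
  have hTo : IsOpen (Tᶜ : Set (PrimeSpectrum B)) := hT.isOpen_compl
  have hm : ∀ f ∈ IsLocalRing.maximalIdeal A,
      (PrimeSpectrum.basicOpen (algebraMap A B f) : Set (PrimeSpectrum B)) ⊆ Tᶜ := by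
    intro f hf q hq hqT
    have h1 := hTm q hqT
    apply hq
    change f ∈ (PrimeSpectrum.comap (algebraMap A B) q).asIdeal
    rw [h1]
    exact hf
  have hclopen : IsClopen (PrimeSpectrum.comap ι.toRingHom ⁻¹' (Tᶜ ∩ u)) := by
    refine ⟨?_, (hTo.inter hu).preimage (PrimeSpectrum.continuous_comap _)⟩
    have h1 : PrimeSpectrum.comap ι.toRingHom ⁻¹' (Tᶜ ∩ u) =
        (PrimeSpectrum.comap ι.toRingHom ⁻¹' (Tᶜ ∩ v))ᶜ := by
      ext Q
      constructor
      · intro h1 h2
        have h3 : PrimeSpectrum.comap ι.toRingHom Q ∈ Tᶜ ∩ (u ∩ v) := ⟨h1.1, h1.2, h2.2⟩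
        rw [hcon] at h3
        exact h3
      · intro h2
        exact ⟨hgen Q, (huv (hgen Q)).resolve_right fun h => h2 ⟨hgen Q, h⟩⟩
    rw [h1]
    exact ((hTo.inter hv).preimage (PrimeSpectrum.continuous_comap _)).isClosed_compl
  obtain ⟨e, he, ⟨z, hz⟩, heU⟩ := exists_idempotent (K := K) (Subalgebra.toSubmodule A₀) hint (Tᶜ ∩ u)
    (hTo.inter hu) (fun f hf => ⟨Tᶜ ∩ v, hTo.inter hv, by
      rw [Set.eq_empty_iff_forall_notMem]
      rintro q ⟨⟨h1, h2⟩, -⟩
      have h3 : q ∈ Tᶜ ∩ (u ∩ v) := ⟨h1.1, h1.2, h2.2⟩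
      rw [hcon] at h3
      exact h3, by
      intro q hq
      have h1 := hm f hf hq
      rcases huv h1 with h2 | h2
      · exact Or.inl ⟨h1, h2⟩
      · exact Or.inr ⟨h1, h2⟩⟩) hclopen
  -- `z` is an idempotent of `A₀ ⊗ B`
  let z' : A₀ ⊗[A] B := z
  let g : A₀ ⊗[A] B →ₐ[A] L := Algebra.TensorProduct.map A₀.val (AlgHom.id A B)
  have hg : g z' = e := hz
  have hginj : Function.Injective g :=
    Module.Flat.rTensor_preserves_injective_linearMap (M := B) A₀.val.toLinearMap
      Subtype.val_injective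
  have hzi : IsIdempotentElem z' := by
    apply hginj
    rw [map_mul, hg, he.eq]
  have hzi' := hzi.map (Algebra.TensorProduct.congr e₀ AlgEquiv.refl :
    A₀ ⊗[A] B ≃ₐ[A] CAlg2.normRed A ⊗[A] B)
  have hz01 : z' = 0 ∨ z' = 1 := by
    rcases Groth.Agent.UnramB.IdemConn.eq_zero_or_one
      Groth.Agent.UnramB.IdemConn.subsingleton_of_isPurelyInseparable _ hzi' with h | h
    · left
      exact (Algebra.TensorProduct.congr e₀ AlgEquiv.refl :
        A₀ ⊗[A] B ≃ₐ[A] CAlg2.normRed A ⊗[A] B).injective (h.trans (map_zero _).symm)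
    · right
      exact (Algebra.TensorProduct.congr e₀ AlgEquiv.refl :
        A₀ ⊗[A] B ≃ₐ[A] CAlg2.normRed A ⊗[A] B).injective (h.trans (map_one _).symm)
  rcases hz01 with h | h
  · -- `Tᶜ ∩ u` is empty
    obtain ⟨q, hq⟩ := hsu
    obtain ⟨Q, hQ⟩ := hdense q
    have h1 : Q ∈ PrimeSpectrum.comap ι.toRingHom ⁻¹' (Tᶜ ∩ u) :=
      hQ.mem_open (hTo.inter hu) hq
    have h2 : Q ∈ (PrimeSpectrum.basicOpen e : Set (PrimeSpectrum L)) := heU ▸ h1
    rw [← hg, h, map_zero, PrimeSpectrum.basicOpen_zero] at h2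
    exact h2
  · obtain ⟨q, hq⟩ := hsv
    obtain ⟨Q, hQ⟩ := hdense q
    have h1 : PrimeSpectrum.comap ι.toRingHom Q ∈ Tᶜ ∩ v := hQ.mem_open (hTo.inter hv) hq
    have h2 : Q ∈ (PrimeSpectrum.basicOpen e : Set (PrimeSpectrum L)) := by
      rw [← hg, h, map_one, PrimeSpectrum.basicOpen_one]
      trivial
    have h3 : Q ∈ PrimeSpectrum.comap ι.toRingHom ⁻¹' (Tᶜ ∩ u) := heU.symm ▸ h2
    have h4 : PrimeSpectrum.comap ι.toRingHom Q ∈ Tᶜ ∩ (u ∩ v) := ⟨h3.1, h3.2, h1.2⟩
    rw [hcon] at h4
    exact h4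

end K147.PuncFib
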