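import Mathlib.AlgebraicGeometry.Morphisms.QuasiFinite
import Mathlib.AlgebraicGeometry.Morphisms.UniversallyOpen
import Mathlib.Topology.Sober

set_option autoImplicit false
universe u

/-! Generic points of irreducible components and flat locally quasi-finite morphisms. -/

namespace K147.GenPts

open CategoryTheory AlgebraicGeometry TopologicalSpace Topology

/-- Generic points of components are the points without proper generizations. -/
theorem closure_mem_iff {α : Type*} [TopologicalSpace α] [QuasiSober α] [T0Space α] (y : α) :
    closure ({y} : Set α) ∈ irreducibleComponents α ↔ ∀ x : α, x ⤳ y → x = y := by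
  constructor
  · intro h x hx
    have h1 : closure ({y} : Set α) ⊆ closure {x} := by
      rw [isClosed_closure.closure_subset_iff, Set.singleton_subset_iff]
      exact hx.mem_closure
    have h2 := h.2 isIrreducible_singleton.closure h1
    exact (hx.antisymm (specializes_iff_mem_closure.mpr (h2 (subset_closure rfl)))).eq
  · intro h
    refine ⟨isIrreducible_singleton.closure, fun s hs hle => ?_⟩
    have h1 := hs.isGenericPoint_genericPoint_closure
    have h2 : hs.genericPoint ⤳ y := by
      rw [specializes_iff_mem_closure, h1.def]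
      exact subset_closure (hle (subset_closure rfl))
    have h3 := h _ h2
    rw [← h3, h1.def]
    exact subset_closure

/-- points of a fibre of a locally quasi-finite morphism have no specialization relations -/
theorem eq_of_specializes_of_apply_eq {X Y : Scheme.{u}} (f : X ⟶ Y) [LocallyQuasiFinite f]
    {x' x : X} (h : x' ⤳ x) (hf : f x' = f x) : x' = x := by
  have hd := f.isDiscrete_preimage_singleton (f x)
  have h1 : DiscreteTopology ↥(f ⁻¹' {f x}) := hd.to_subtype
  have h2 : (⟨x', hf⟩ : ↥(f ⁻¹' {f x})) ⤳ ⟨x, rfl⟩ :=
    (Topology.IsInducing.subtypeVal (t := f ⁻¹' {f x})).specializes_iff.mp h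
  exact congrArg Subtype.val h2.eq

theorem maximal_of_apply {X Y : Scheme.{u}} (f : X ⟶ Y) [LocallyQuasiFinite f] (x : X)
    (h : ∀ y : Y, y ⤳ f x → y = f x) (x' : X) (hx' : x' ⤳ x) : x' = x :=
  eq_of_specializes_of_apply_eq f hx' (h _ (hx'.map f.continuous))

theorem apply_of_maximal {X Y : Scheme.{u}} (f : X ⟶ Y) [Flat f] (x : X)
    (h : ∀ x' : X, x' ⤳ x → x' = x) (y : Y) (hy : y ⤳ f x) : y = f x := by
  obtain ⟨x', hx', rfl⟩ := Flat.generalizingMap f hy
  rw [h x' hx']

end K147.GenPts
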