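import Groth.Agent.Etcore.NormalEtale
import Mathlib.RingTheory.Algebraic.Integral
import Mathlib.Algebra.Field.Subfield.Basic

/-!
# The integral closure in a compositum

`main`: `A ⊆ A'` integrally closed domains, `L` algebraic over `A` such that the integral closure `C` of
`A` in `L` is étale over `A`, `L₁` a compositum of `A'` and `L`; then the integral closure of `A'` in
`L₁` is étale over `A'` and generated by `C`.
-/

set_option autoImplicit false
universe u

open TensorProduct

namespace K147.Composit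

/-- Every element of a field generated by two subrings, one of which consists of fractions of elements
of a subring `D` and the other is contained in `D`, is a fraction of elements of `D`. -/
theorem exists_fraction {L₁ : Type*} [Field L₁] (D : Subring L₁) (S : Set L₁)
    (hS : ∀ x ∈ S, ∃ a ∈ D, ∃ b ∈ D, b ≠ 0 ∧ x * b = a) (hgen : Subfield.closure S = ⊤) (x : L₁) :
    ∃ a ∈ D, ∃ b ∈ D, b ≠ 0 ∧ x * b = a := by
  have hx : x ∈ Subfield.closure S := by rw [hgen]; trivial
  refine Subfield.closure_induction (p := fun x _ => ∃ a ∈ D, ∃ b ∈ D, b ≠ 0 ∧ x * b = a)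
    hS ?_ ?_ ?_ ?_ ?_ hx
  · exact ⟨1, D.one_mem, 1, D.one_mem, one_ne_zero, one_mul 1⟩
  · rintro x y - - ⟨a, ha, b, hb, hb0, h⟩ ⟨a', ha', b', hb', hb0', h'⟩
    refine ⟨a * b' + a' * b, D.add_mem (D.mul_mem ha hb') (D.mul_mem ha' hb), b * b',
      D.mul_mem hb hb', mul_ne_zero hb0 hb0', ?_⟩
    rw [← h, ← h']
    ring
  · rintro x - ⟨a, ha, b, hb, hb0, h⟩
    exact ⟨-a, D.neg_mem ha, b, hb, hb0, by rw [← h]; ring⟩
  · rintro x - ⟨a, ha, b, hb, hb0, h⟩
    by_cases hx0 : x = 0
    · exact ⟨0, D.zero_mem, 1, D.one_mem, one_ne_zero, by rw [hx0, inv_zero, zero_mul]⟩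
    · refine ⟨b, hb, a, ha, ?_, ?_⟩
      · rw [← h]
        exact mul_ne_zero hx0 hb0
      · rw [← h, ← mul_assoc, inv_mul_cancel₀ hx0, one_mul]
  · rintro x y - - ⟨a, ha, b, hb, hb0, h⟩ ⟨a', ha', b', hb', hb0', h'⟩
    refine ⟨a * a', D.mul_mem ha ha', b * b', D.mul_mem hb hb', mul_ne_zero hb0 hb0', ?_⟩
    rw [← h, ← h']
    ring

variable (A A' L L₁ : Type u) [CommRing A] [IsDomain A]
    [CommRing A'] [IsDomain A'] [IsIntegrallyClosed A'] [Algebra A A']
    [Field L] [Algebra A L] [Algebra.IsAlgebraic A L] (hinj : Function.Injective (algebraMap A L))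
    [Algebra.Etale A ↥(integralClosure A L)]
    [Field L₁] [Algebra A' L₁] [Algebra L L₁] [Algebra A L₁] [IsScalarTower A A' L₁] [IsScalarTower A L L₁]
    (hinj' : Function.Injective (algebraMap A' L₁))
    (hgen : Subfield.closure (Set.range (algebraMap A' L₁) ∪ Set.range (algebraMap L L₁)) = ⊤)

include hinj hinj' hgen in
theorem main :
    Algebra.Etale A' ↥(integralClosure A' L₁) ∧
      integralClosure A' L₁ = Algebra.adjoin A' ((algebraMap L L₁) '' {x : L | IsIntegral A x}) := by
  let C := integralClosure A L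
  let j : C →ₐ[A] L₁ := (IsScalarTower.toAlgHom A L L₁).comp C.val
  have hj : ∀ c : C, j c = algebraMap L L₁ c := fun c => rfl
  let S := A' ⊗[A] C
  let ψ : S →ₐ[A'] L₁ := Algebra.TensorProduct.lift (Algebra.ofId A' L₁) j (fun _ _ => Commute.all _ _)
  have hψ : ∀ (a : A') (c : C), ψ (a ⊗ₜ c) = algebraMap A' L₁ a * algebraMap L L₁ c := fun a c =>
    Algebra.TensorProduct.lift_tmul _ _ _ _ _
  let D : Subalgebra A' L₁ := Algebra.adjoin A' ((algebraMap L L₁) '' {x : L | IsIntegral A x})
  have hrange : ψ.range = D := by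
    apply le_antisymm
    · rintro _ ⟨x, rfl⟩
      induction x using TensorProduct.induction_on with
      | zero =>
        change ψ 0 ∈ D
        rw [map_zero]
        exact D.zero_mem
      | tmul a c =>
        change ψ (a ⊗ₜ c) ∈ D
        rw [hψ]
        exact D.mul_mem (D.algebraMap_mem a) (Algebra.subset_adjoin ⟨c, c.2, rfl⟩)
      | add x y hx hy =>
        change ψ (x + y) ∈ D
        rw [map_add]
        exact D.add_mem hx hy
    · refine Algebra.adjoin_le ?_
      rintro _ ⟨c, hc, rfl⟩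
      refine ⟨1 ⊗ₜ ⟨c, hc⟩, ?_⟩
      change ψ (1 ⊗ₜ ⟨c, hc⟩) = _
      rw [hψ, map_one, one_mul]
  let p : Ideal S := RingHom.ker ψ
  have hp : p.IsPrime := RingHom.ker_isPrime _
  obtain ⟨e, he, hep, hdom, hnorm⟩ :=
    Groth.Agent.Etcore.NormalEtale.exists_idempotent_notMem (R := A') (S := S) p
  let Se := Localization.Away e
  have hψe0 : ψ e ≠ 0 := hep
  have hu : IsUnit (ψ.toRingHom e) := isUnit_iff_ne_zero.2 hψe0
  let ψe : Se →+* L₁ := IsLocalization.Away.lift e (g := ψ.toRingHom) hu
  have hψe : ∀ x : S, ψe (algebraMap S Se x) = ψ x := fun x => IsLocalization.Away.lift_eq e hu x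
  have hsurj : Function.Surjective (algebraMap S Se) := by
    intro y
    obtain ⟨⟨x, ⟨_, n, rfl⟩⟩, h⟩ := IsLocalization.surj (M := Submonoid.powers e) y
    have h1 : algebraMap S Se e = 1 := by
      have h2 : IsUnit (algebraMap S Se e) := IsLocalization.Away.algebraMap_isUnit e
      exact (IsIdempotentElem.iff_eq_one_of_isUnit h2).1 (he.map (algebraMap S Se))
    refine ⟨x, ?_⟩
    rw [map_pow, h1, one_pow, mul_one] at h
    exact h.symm
  have hψA : ∀ a : A', ψe (algebraMap A' Se a) = algebraMap A' L₁ a := by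
    intro a
    rw [IsScalarTower.algebraMap_apply A' S Se, hψe]
    exact ψ.commutes a
  have hCint : Algebra.IsIntegral A' S := inferInstance
  have hinje : Function.Injective ψe := by
    rw [injective_iff_map_eq_zero]
    intro y hy
    by_contra hy0
    obtain ⟨x, rfl⟩ := hsurj y
    have hyint : IsIntegral A' (algebraMap S Se x) :=
      (Algebra.IsIntegral.isIntegral (R := A') x).map (IsScalarTower.toAlgHom A' S Se)
    have h1 : (RingHom.ker ψe).comap (algebraMap A' Se) ≠ ⊥ :=
      Ideal.comap_ne_bot_of_integral_mem hy0 hy hyint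
    obtain ⟨a, ha, ha0⟩ := Submodule.exists_mem_ne_zero_of_ne_bot h1
    have h2 : ψe (algebraMap A' Se a) = 0 := ha
    rw [hψA] at h2
    exact ha0 (hinj' (by rw [h2, map_zero]))
  let ψA : Se →ₐ[A'] L₁ := { ψe with commutes' := hψA }
  have hrangeA : ψA.range = D := by
    rw [← hrange]
    apply le_antisymm
    · rintro _ ⟨y, rfl⟩
      obtain ⟨x, rfl⟩ := hsurj y
      exact ⟨x, (hψe x).symm⟩
    · rintro _ ⟨x, rfl⟩
      exact ⟨algebraMap S Se x, hψe x⟩
  let E : Se ≃ₐ[A'] D := (AlgEquiv.ofInjective ψA hinje).trans (Subalgebra.equivOfEq _ _ hrangeA)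
  have hDN : IsIntegrallyClosed D := IsIntegrallyClosed.of_equiv E.toRingEquiv
  have hfracD : IsFractionRing D L₁ := by
    refine IsFractionRing.of_field D L₁ fun z => ?_
    obtain ⟨a, ha, b, hb, hb0, h⟩ := exists_fraction D.toSubring
      (Set.range (algebraMap A' L₁) ∪ Set.range (algebraMap L L₁)) (by
        rintro x (⟨a, rfl⟩ | ⟨l, rfl⟩)
        · exact ⟨_, D.algebraMap_mem a, 1, D.one_mem, one_ne_zero, mul_one _⟩
        · obtain ⟨a, ha0, ha⟩ := (Algebra.IsAlgebraic.isAlgebraic (R := A) l).exists_integral_multiple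
          refine ⟨algebraMap L L₁ (a • l), Algebra.subset_adjoin ⟨_, ha, rfl⟩,
            algebraMap A' L₁ (algebraMap A A' a), D.algebraMap_mem _, ?_, ?_⟩
          · rw [← IsScalarTower.algebraMap_apply A A' L₁, IsScalarTower.algebraMap_apply A L L₁]
            intro h
            have h1 : algebraMap A L a = 0 := (algebraMap L L₁).injective (by rw [h, map_zero])
            exact ha0 (hinj (by rw [h1, map_zero]))
          · rw [← IsScalarTower.algebraMap_apply A A' L₁, IsScalarTower.algebraMap_apply A L L₁,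
              ← map_mul, Algebra.smul_def, mul_comm]) hgen z
    refine ⟨⟨a, ha⟩, ⟨b, hb⟩, ?_⟩
    change z = a / b
    rw [eq_div_iff hb0]
    exact h
  have hIC : integralClosure A' L₁ = D := by
    apply le_antisymm
    · intro x hx
      have h1 : IsIntegral D x := IsIntegral.tower_top (R := A') hx
      obtain ⟨y, rfl⟩ := IsIntegrallyClosed.isIntegral_iff.1 h1
      exact y.2
    · refine Algebra.adjoin_le ?_
      rintro _ ⟨c, hc, rfl⟩
      have h1 : IsIntegral A (algebraMap L L₁ c) := hc.map (IsScalarTower.toAlgHom A L L₁)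
      exact IsIntegral.tower_top (R := A) h1
  refine ⟨?_, hIC⟩
  have hE1 : Algebra.Etale S Se := Algebra.Etale.of_isLocalizationAway e
  have hE2 : Algebra.Etale A' Se := Algebra.Etale.comp A' S Se
  have hE3 : Algebra.Etale A' D := Algebra.Etale.of_equiv E
  rw [hIC]
  exact hE3

end K147.Composit
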