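import Groth.Agent.Unram.K147.PuncFib
import Groth.Agent.Brnch.K580.NormRed

/-!
# Functions on the punctured spectrum of a reduced local ring are integral

`isIntegral_of_pow_mul_reduced`: `A` a reduced Noetherian local ring, `A'` its integral closure in the total
ring of fractions `F`, all the localizations of `A'` at maximal ideals having dimension at least two. If
`x ∈ F` is multiplied into `A` by a power of every element of the maximal ideal, then `x` is integral.
-/

set_option autoImplicit false
universe u

namespace K147.PuncRed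

open CAlg2

theorem isFractionRing_red (D : Type u) [CommRing D] [IsReduced D] :
    IsFractionRing D (FractionRing (red D)) := by
  have hbij : Function.Bijective (algebraMap D (red D)) := by
    refine ⟨?_, Ideal.Quotient.mk_surjective⟩
    rw [RingHom.injective_iff_ker_eq_bot]
    exact Ideal.mk_ker.trans (nilradical_eq_zero D)
  let e : D ≃+* red D := RingEquiv.ofBijective (algebraMap D (red D)) hbij
  exact IsFractionRing.of_ringEquiv_left e fun x => rfl

section Main

variable {A : Type u} [CommRing A] [IsNoetherianRing A] [IsLocalRing A] [IsReduced A]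

omit [IsLocalRing A] in
/-- The total ring of fractions of a reduced Noetherian ring is a product of fields. -/
theorem exists_equiv : Nonempty (FractionRing A ≃ₐ[A]
    (∀ p : minimalPrimes A, FractionRing (red (A ⧸ p.1)))) := by
  obtain ⟨e⟩ := K580.NormRed.exists_fracEquiv A (minimalPrimes.finite_of_isNoetherianRing A)
  have := isFractionRing_red A
  exact ⟨(FractionRing.algEquiv A (FractionRing (red A))).trans e⟩

theorem isDomain_red (D : Type u) [CommRing D] [IsDomain D] : IsDomain (red D) := by
  have h3 : (nilradical D).IsPrime := by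
    rw [nilradical_eq_zero]; exact Ideal.isPrime_bot
  exact Ideal.Quotient.isDomain _

/-- The dimension hypothesis passes to the factors of the integral closure. -/
theorem exists_prime_factor
    (hdim : ∀ (m' : Ideal ↥(integralClosure A (FractionRing A))) [m'.IsMaximal],
      m'.comap (algebraMap A ↥(integralClosure A (FractionRing A))) = IsLocalRing.maximalIdeal A →
        2 ≤ ringKrullDim (Localization.AtPrime m')) (p : minimalPrimes A)
    (M : Ideal (integralClosure (A ⧸ p.1) (FractionRing (red (A ⧸ p.1))))) (hM : M.IsMaximal) :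
    ∃ N : Ideal (integralClosure (A ⧸ p.1) (FractionRing (red (A ⧸ p.1)))), N.IsPrime ∧ N ≠ ⊥ ∧ N < M := by
  classical
  obtain ⟨e⟩ := exists_equiv (A := A)
  have hfin : Finite (minimalPrimes A) :=
    (minimalPrimes.finite_of_isNoetherianRing A).to_subtype
  have hpp : p.1.IsPrime := p.2.1.1
  let D := A ⧸ p.1
  let K := FractionRing (red D)
  let A' := integralClosure A (FractionRing A)
  let B := integralClosure D K
  have hsurjD : Function.Surjective (algebraMap A D) := Ideal.Quotient.mk_surjective
  have hD : ∀ x : K, IsIntegral D x ↔ IsIntegral A x :=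
    K580.NormRed.isIntegral_iff_of_surjective hsurjD
  let ev : FractionRing A →ₐ[A] K :=
    (Pi.evalAlgHom A (fun p : minimalPrimes A => FractionRing (red (A ⧸ p.1))) p).comp e.toAlgHom
  let θ : A' →+* B :=
    { toFun := fun x => ⟨ev x.1, (hD _).2 (x.2.map ev)⟩
      map_one' := Subtype.ext (map_one ev)
      map_mul' := fun x y => Subtype.ext (map_mul ev _ _)
      map_zero' := Subtype.ext (map_zero ev)
      map_add' := fun x y => Subtype.ext (map_add ev _ _) }
  -- lifting along `ev`
  have hlift : ∀ β : K, IsIntegral A β → ∃ y : A', e y.1 = Pi.single p β := by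
    intro β hβ
    refine ⟨⟨e.symm (Pi.single p β), ?_⟩, e.apply_symm_apply _⟩
    have h1 : IsIntegral A (Pi.single p β : ∀ p : minimalPrimes A, FractionRing (red (A ⧸ p.1))) := by
      refine K580.NormRed.isIntegral_pi _ fun q => ?_
      by_cases hq : q = p
      · subst hq
        rwa [Pi.single_eq_same]
      · rw [Pi.single_eq_of_ne hq]
        exact isIntegral_zero
    exact h1.map e.symm
  have hθ : Function.Surjective θ := by
    intro β
    obtain ⟨y, hy⟩ := hlift β.1 ((hD _).1 β.2)
    refine ⟨y, Subtype.ext ?_⟩
    change e y.1 p = β.1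
    rw [hy, Pi.single_eq_same]
  obtain ⟨ε, hε⟩ := hlift 1 isIntegral_one
  have hθε : θ ε = 1 := by
    apply Subtype.ext
    change e ε.1 p = 1
    rw [hε, Pi.single_eq_same]
  have hker : ∀ y : A', θ y = 0 → y * ε = 0 := by
    intro y hy
    apply Subtype.ext
    apply e.injective
    change e (y.1 * ε.1) = e 0
    rw [map_mul, hε, map_zero]
    funext q
    by_cases hq : q = p
    · subst hq
      have h1 : e y.1 q = 0 := congrArg Subtype.val hy
      rw [Pi.mul_apply, h1, zero_mul]
      rfl
    · rw [Pi.mul_apply, Pi.single_eq_of_ne hq, mul_zero]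
      rfl
  let m' : Ideal A' := M.comap θ
  have hm' : m'.IsMaximal := Ideal.comap_isMaximal_of_surjective θ hθ
  have hεm : ε ∉ m' := by
    intro h
    have h1 : θ ε ∈ M := h
    rw [hθε] at h1
    exact (Ideal.ne_top_iff_one M).1 hM.ne_top h1
  have hm'A : m'.comap (algebraMap A A') = IsLocalRing.maximalIdeal A := by
    have h1 : (M.comap (algebraMap D B)).IsMaximal :=
      Ideal.isMaximal_comap_of_isIntegral_of_isMaximal M
    have h2 : ((M.comap (algebraMap D B)).comap (algebraMap A D)).IsMaximal :=
      Ideal.comap_isMaximal_of_surjective _ hsurjD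
    have h3 : m'.comap (algebraMap A A') = (M.comap (algebraMap D B)).comap (algebraMap A D) := by
      rw [Ideal.comap_comap, Ideal.comap_comap]
      congr 1
      refine RingHom.ext fun a => Subtype.ext ?_
      change ev (algebraMap A (FractionRing A) a) = algebraMap D K (algebraMap A D a)
      rw [ev.commutes]
      rfl
    rw [h3]
    exact IsLocalRing.eq_maximalIdeal h2
  obtain ⟨Q, hQ, hQ0, hQm⟩ := PuncFib.exists_prime_between (A := Localization.AtPrime m') (hdim m' hm'A)
  let L := Localization.AtPrime m'
  let P : Ideal A' := Q.comap (algebraMap A' L)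
  have hPm : P < m' := by
    have h1 : P ≤ m' := by
      have h2 : (IsLocalRing.maximalIdeal L).comap (algebraMap A' L) = m' :=
        Localization.AtPrime.comap_maximalIdeal
      rw [← h2]
      exact Ideal.comap_mono hQm.le
    refine lt_of_le_of_ne h1 fun h => hQm.ne ?_
    refine le_antisymm hQm.le ?_
    rw [← Localization.AtPrime.map_eq_maximalIdeal, Ideal.map_le_iff_le_comap]
    exact h.ge
  have hkerP : RingHom.ker θ ≤ P := by
    intro y hy
    have h1 : y * ε ∈ P := by
      rw [hker y hy]
      exact P.zero_mem
    exact ((inferInstance : P.IsPrime).mem_or_mem h1).resolve_right fun h => hεm (hPm.le h)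
  refine ⟨P.map θ, Ideal.map_isPrime_of_surjective hθ hkerP, ?_, ?_⟩
  · intro h0
    apply hQ0
    rw [eq_bot_iff]
    intro z hz
    obtain ⟨a, s, rfl⟩ := IsLocalization.exists_mk'_eq m'.primeCompl z
    have h1 : a ∈ P := by
      change algebraMap A' L a ∈ Q
      have h2 : algebraMap A' L a = IsLocalization.mk' L a s * algebraMap A' L s := by
        rw [IsLocalization.mk'_spec]
      rw [h2]
      exact Q.mul_mem_right _ hz
    have h2 : θ a = 0 := by
      have h3 : θ a ∈ P.map θ := Ideal.mem_map_of_mem θ h1
      rw [h0] at h3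
      exact h3
    rw [Ideal.mem_bot, IsLocalization.mk'_eq_zero_iff]
    exact ⟨⟨ε, hεm⟩, by rw [mul_comm]; exact hker a h2⟩
  · have h1 : P.map θ ≤ M := by
      rw [Ideal.map_le_iff_le_comap]
      exact hPm.le
    refine lt_of_le_of_ne h1 fun h => hPm.ne ?_
    have h2 : (P.map θ).comap θ = P := by
      rw [Ideal.comap_map_of_surjective' _ hθ, sup_eq_left.2 hkerP]
    rw [← h2, h]

/-- Functions on the punctured spectrum of a reduced Noetherian local ring are integral. -/
theorem isIntegral_of_pow_mul_reduced
    (hdim : ∀ (m' : Ideal ↥(integralClosure A (FractionRing A))) [m'.IsMaximal],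
      m'.comap (algebraMap A ↥(integralClosure A (FractionRing A))) = IsLocalRing.maximalIdeal A →
        2 ≤ ringKrullDim (Localization.AtPrime m')) (x : FractionRing A)
    (hx : ∀ a ∈ IsLocalRing.maximalIdeal A, ∃ (n : ℕ) (b : A),
      algebraMap A (FractionRing A) a ^ n * x = algebraMap A (FractionRing A) b) :
    IsIntegral A x := by
  obtain ⟨e⟩ := exists_equiv (A := A)
  have hfin : Finite (minimalPrimes A) :=
    (minimalPrimes.finite_of_isNoetherianRing A).to_subtype
  have h1 : IsIntegral A (e x) := by
    refine K580.NormRed.isIntegral_pi _ fun p => ?_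
    have hpp : p.1.IsPrime := p.2.1.1
    have hdom := isDomain_red (A ⧸ p.1)
    have hfr := isFractionRing_red (A ⧸ p.1)
    have hsurjD : Function.Surjective (algebraMap A (A ⧸ p.1)) := Ideal.Quotient.mk_surjective
    have hloc : IsLocalRing (A ⧸ p.1) := .of_surjective' (Ideal.Quotient.mk p.1) hsurjD
    rw [← K580.NormRed.isIntegral_iff_of_surjective hsurjD]
    refine PuncInt.isIntegral_of_pow_mul (A := A ⧸ p.1) (K := FractionRing (red (A ⧸ p.1)))
      (exists_prime_factor hdim p) _ fun a ha => ?_
    obtain ⟨a, rfl⟩ := Ideal.Quotient.mk_surjective a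
    have ha' : a ∈ IsLocalRing.maximalIdeal A := fun h => ha (h.map _)
    obtain ⟨n, b, hb⟩ := hx a ha'
    refine ⟨n, Ideal.Quotient.mk p.1 b, ?_⟩
    have h2 := congrFun (congrArg e hb) p
    rw [map_mul, map_pow, e.commutes, e.commutes] at h2
    exact h2
  have h2 := h1.map e.symm
  rwa [AlgEquiv.symm_apply_apply] at h2

end Main

end K147.PuncRed
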