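import Groth.Prelude.Def_FEt
import Mathlib.AlgebraicGeometry.AffineScheme
import Mathlib.AlgebraicGeometry.Properties
import Mathlib.RingTheory.Localization.FractionRing

/-!
# Sections over the punctured spectrum of a reduced local ring

`exists_embedding`: they embed into the total ring of fractions, and their images are multiplied into
the ring by powers of the elements of the maximal ideal.
-/

set_option autoImplicit false
universe u

open CategoryTheory AlgebraicGeometry Opposite

namespace K147.PuncSec

/-- The algebra structure on sections of the structure sheaf. -/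
@[reducible] noncomputable def algR (R : CommRingCat.{u}) (U : (Spec R).Opens) : Algebra R Γ(Spec R, U) :=
  inferInstance

theorem isLocR (R : CommRingCat.{u}) (f : R) :
    IsLocalization.Away f Γ(Spec R, PrimeSpectrum.basicOpen f) := inferInstance

/-- The algebra structure on sections of the structure sheaf. -/
noncomputable local instance algA (A : Type u) [CommRing A] (U : (Spec (CommRingCat.of A)).Opens) :
    Algebra A Γ(Spec (CommRingCat.of A), U) := algR (CommRingCat.of A) U

/-- The open subset `D(f)`. -/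
noncomputable def DD {A : Type u} [CommRing A] (f : A) : (Spec (CommRingCat.of A)).Opens :=
  PrimeSpectrum.basicOpen f

local instance isLocA (A : Type u) [CommRing A] (f : A) :
    IsLocalization.Away f Γ(Spec (CommRingCat.of A), DD f) :=
  isLocR (CommRingCat.of A) f

variable (A : Type u) [CommRing A] [IsLocalRing A]

/-- The restriction map from `A` to the sections over the punctured spectrum. -/
noncomputable abbrev rho : A →+* Γ(Spec (CommRingCat.of A), FEt.puncturedSpec A) :=
  ((Spec (CommRingCat.of A)).presheaf.map (homOfLE (le_top : FEt.puncturedSpec A ≤ ⊤)).op).hom.comp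
        (Scheme.ΓSpecIso (CommRingCat.of A)).inv.hom

variable {A}

theorem basicOpen_le {f : A} (hf : f ∈ IsLocalRing.maximalIdeal A) :
    DD f ≤ FEt.puncturedSpec A := by
  intro q hq hqm
  have h1 : q = IsLocalRing.closedPoint A := hqm
  subst h1
  exact hq hf

/-- The restriction to `D(f)`, `f` in the maximal ideal. -/
noncomputable def resD {f : A} (hf : f ∈ IsLocalRing.maximalIdeal A) :
    Γ(Spec (CommRingCat.of A), FEt.puncturedSpec A) →+*
      Γ(Spec (CommRingCat.of A), DD f) :=
  ((Spec (CommRingCat.of A)).presheaf.map (homOfLE (basicOpen_le hf)).op).hom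

theorem resD_rho {f : A} (hf : f ∈ IsLocalRing.maximalIdeal A) (a : A) :
    resD hf (rho A a) = algebraMap A
      Γ(Spec (CommRingCat.of A), DD f) a := by
  change ((Spec (CommRingCat.of A)).presheaf.map (homOfLE (basicOpen_le hf)).op).hom
    (((Spec (CommRingCat.of A)).presheaf.map
      (homOfLE (le_top : FEt.puncturedSpec A ≤ ⊤)).op).hom
        ((Scheme.ΓSpecIso (CommRingCat.of A)).inv.hom a)) =
    ((Scheme.ΓSpecIso (CommRingCat.of A)).inv ≫
      (Spec (CommRingCat.of A)).presheaf.map (homOfLE le_top).op).hom a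
  have h1 : (Spec (CommRingCat.of A)).presheaf.map (homOfLE (le_top : FEt.puncturedSpec A ≤ ⊤)).op ≫
      (Spec (CommRingCat.of A)).presheaf.map (homOfLE (basicOpen_le hf)).op =
      (Spec (CommRingCat.of A)).presheaf.map (homOfLE (le_top : DD f ≤ ⊤)).op := by
    rw [← Functor.map_comp]
    rfl
  have h2 := congrArg (fun φ => φ.hom ((Scheme.ΓSpecIso (CommRingCat.of A)).inv.hom a)) h1
  exact h2

theorem basicOpen_rho (a : A) : (Spec (CommRingCat.of A)).basicOpen (rho A a) =
    FEt.puncturedSpec A ⊓ DD a := by
  have h1 := Scheme.basicOpen_res (Spec (CommRingCat.of A))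
    ((Scheme.ΓSpecIso (CommRingCat.of A)).inv.hom a) (homOfLE (le_top : FEt.puncturedSpec A ≤ ⊤)).op
  have h2 := basicOpen_eq_of_affine (R := CommRingCat.of A) a
  exact h1.trans (congrArg (FEt.puncturedSpec A ⊓ ·) h2)

variable [IsReduced A]

/-- A section vanishing on `D(a)` is killed by `a`. -/
theorem rho_mul_eq_zero {a : A} (ha : a ∈ IsLocalRing.maximalIdeal A)
    (t : Γ(Spec (CommRingCat.of A), FEt.puncturedSpec A)) (ht : resD ha t = 0) : rho A a * t = 0 := by
  rw [← basicOpen_eq_bot_iff, Scheme.basicOpen_mul, basicOpen_rho]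
  have h1 := Scheme.basicOpen_res (Spec (CommRingCat.of A)) t (homOfLE (basicOpen_le ha)).op
  have h2 : (Spec (CommRingCat.of A)).presheaf.map (homOfLE (basicOpen_le ha)).op t = 0 := ht
  rw [h2, Scheme.basicOpen_zero] at h1
  rw [eq_bot_iff]
  rintro q ⟨⟨-, hq1⟩, hq2⟩
  exact h1.ge ⟨hq1, hq2⟩

theorem resD_injective {f : A} (hf : f ∈ IsLocalRing.maximalIdeal A) (hf' : f ∈ nonZeroDivisors A) :
    Function.Injective (resD hf) := by
  rw [injective_iff_map_eq_zero]
  intro t ht
  rw [← basicOpen_eq_bot_iff]
  have h1 := Scheme.basicOpen_res (Spec (CommRingCat.of A)) t (homOfLE (basicOpen_le hf)).op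
  have h2 : (Spec (CommRingCat.of A)).presheaf.map (homOfLE (basicOpen_le hf)).op t = 0 := ht
  rw [h2, Scheme.basicOpen_zero] at h1
  rw [eq_bot_iff]
  intro q hq
  exfalso
  obtain ⟨P, hP, hle⟩ := Ideal.exists_minimalPrimes_le (I := ⊥) (J := q.asIdeal) bot_le
  have hPp : P.IsPrime := hP.1.1
  let p : Spec (CommRingCat.of A) := ⟨P, hPp⟩
  have hsp : p ⤳ q := (PrimeSpectrum.le_iff_specializes p q).1 hle
  have hpt : p ∈ (Spec (CommRingCat.of A)).basicOpen t :=
    hsp.mem_open ((Spec (CommRingCat.of A)).basicOpen t).2 hq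
  have hpf : p ∈ DD f := by
    intro hfP
    exact notMem_nonZeroDivisors_of_mem_mem_minimalPrimes hfP hP hf'
  exact h1.ge ⟨hpf, hpt⟩

theorem exists_embedding {f : A} (hf : f ∈ IsLocalRing.maximalIdeal A) (hf' : f ∈ nonZeroDivisors A) :
    ∃ φ : Γ(Spec (CommRingCat.of A), FEt.puncturedSpec A) →+* FractionRing A,
      Function.Injective φ ∧ (∀ a, φ (rho A a) = algebraMap A (FractionRing A) a) ∧
      ∀ s, ∀ a ∈ IsLocalRing.maximalIdeal A, ∃ (n : ℕ) (b : A),
        algebraMap A (FractionRing A) a ^ n * φ s = algebraMap A (FractionRing A) b := by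
  let Rf := Γ(Spec (CommRingCat.of A), DD f)
  have hloc : IsLocalization.Away f Rf := inferInstance
  have hu : IsUnit (algebraMap A (FractionRing A) f) := IsLocalization.map_units _ ⟨f, hf'⟩
  let ψ : Rf →+* FractionRing A := IsLocalization.Away.lift (R := A)
    f (g := algebraMap A (FractionRing A)) hu
  have hψ : ∀ a : A, ψ (algebraMap A Rf a) = algebraMap A (FractionRing A) a :=
    fun a => IsLocalization.Away.lift_eq (R := A) f hu a
  have hψi : Function.Injective ψ := by
    rw [injective_iff_map_eq_zero]
    intro y hy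
    obtain ⟨⟨a, ⟨_, n, rfl⟩⟩, h⟩ := IsLocalization.surj (M := Submonoid.powers f) y
    have h1 : algebraMap A (FractionRing A) a = 0 := by
      have h2 := congrArg ψ h
      rw [map_mul, hy, zero_mul] at h2
      rw [← hψ]
      exact h2.symm
    have h2 : (a : A) = 0 := IsFractionRing.injective A (FractionRing A) (by rw [h1, map_zero])
    have h3 : y * algebraMap A Rf (f ^ n) = 0 := by
      refine h.trans ?_
      change algebraMap A Rf a = 0
      rw [h2]
      exact map_zero _
    have h4 : IsUnit (algebraMap A Rf (f ^ n)) :=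
      IsLocalization.map_units (M := Submonoid.powers f) Rf ⟨_, n, rfl⟩
    exact h4.mul_left_eq_zero.1 h3
  refine ⟨ψ.comp (resD hf), hψi.comp (resD_injective hf hf'), fun a => ?_, fun s a ha => ?_⟩
  · rw [RingHom.comp_apply, resD_rho, hψ]
  · let Ra := Γ(Spec (CommRingCat.of A), DD a)
    have hloc' : IsLocalization.Away a Ra := inferInstance
    obtain ⟨⟨b, ⟨_, n, rfl⟩⟩, h⟩ :=
      IsLocalization.surj (M := Submonoid.powers a) (resD ha s)
    have h1 : resD ha (rho A (a ^ n) * s - rho A b) = 0 := by
      rw [map_sub, map_mul, resD_rho, resD_rho, sub_eq_zero, mul_comm]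
      exact h
    have h2 := rho_mul_eq_zero ha _ h1
    have h3 := congrArg (ψ.comp (resD hf)) h2
    have h4 : ∀ a, ψ.comp (resD hf) (rho A a) = algebraMap A (FractionRing A) a := fun a => by
      rw [RingHom.comp_apply, resD_rho, hψ]
    rw [map_mul, map_sub, map_mul, h4, h4, h4, map_zero, map_pow, mul_sub, sub_eq_zero] at h3
    refine ⟨n + 1, a * b, ?_⟩
    rw [pow_succ', mul_assoc, map_mul]
    exact h3

end K147.PuncSec
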