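import Groth.Agent.UnramA.UnramIntegralScheme
import Groth.Agent.S5067
import Groth.Agent.CurvesC.NormSections
import Groth.Agent.Unram.K147.LQF

/-!
# Unramified morphisms over a geometrically unibranch point

* `exists_isIrreducible_nhd`: in a scheme with locally finite components, a point whose local ring is
  a domain has an irreducible open neighbourhood.
* `exists_openImmersion`: let `f : X ⟶ Y` be separated, locally of finite type and unramified, `x` a
  point such that `f x` is geometrically unibranch on the reduced scheme `Y` (locally finite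
  components), and `ξ ⤳ x` a point above the generic point with trivial residue field extension; then
  `f` is an open immersion near `x`.
-/

set_option autoImplicit false
universe u

open CategoryTheory AlgebraicGeometry TopologicalSpace

namespace K147.UnibSection

theorem exists_isIrreducible_nhd {Y : Scheme.{u}}
    (hcomp : LocallyFinite (fun Z : ↥(irreducibleComponents ↥Y) => (Z : Set ↥Y))) (y : Y)
    (hy : IsDomain (Y.presheaf.stalk y)) : ∃ V : Y.Opens, y ∈ V ∧ IsIrreducible (V : Set Y) := by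
  let Z := irreducibleComponent y
  have hZ : Z ∈ irreducibleComponents (Y : Type u) := irreducibleComponent_mem_irreducibleComponents y
  have hcl : IsClosed (⋃ Z' : {Z' : irreducibleComponents ↥Y // (Z' : Set ↥Y) ≠ Z},
      ((Z' : irreducibleComponents ↥Y) : Set ↥Y)) := by
    refine LocallyFinite.isClosed_iUnion ?_ ?_
    · exact hcomp.comp_injective (g := fun Z' : {Z' : irreducibleComponents ↥Y // (Z' : Set ↥Y) ≠ Z} =>
        (Z' : irreducibleComponents ↥Y)) Subtype.val_injective
    · intro Z'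
      exact isClosed_of_mem_irreducibleComponents _ Z'.1.2
  have hyV : y ∈ (⋃ Z' : {Z' : irreducibleComponents ↥Y // (Z' : Set ↥Y) ≠ Z},
      ((Z' : irreducibleComponents ↥Y) : Set ↥Y))ᶜ := by
    simp only [Set.mem_compl_iff, Set.mem_iUnion, not_exists]
    intro Z' hy'
    exact Z'.2 (Groth.Agent.CurvesC.NormSections.eq_of_mem_of_mem hy Z'.1.2 hZ hy'
      mem_irreducibleComponent)
  refine ⟨⟨_, hcl.isOpen_compl⟩, hyV, ⟨y, hyV⟩, ?_⟩
  refine hZ.1.2.open_subset hcl.isOpen_compl ?_
  intro z hz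
  by_contra hne
  refine hz (Set.mem_iUnion.2 ⟨⟨⟨irreducibleComponent z,
    irreducibleComponent_mem_irreducibleComponents z⟩,
    fun e => hne (by rw [← e]; exact mem_irreducibleComponent)⟩, mem_irreducibleComponent⟩)

theorem bijective_residueFieldMap_comp {X Y Z : Scheme.{u}} (f : X ⟶ Y) (g : Y ⟶ Z) (x : X)
    (h1 : Function.Bijective (f.residueFieldMap x).hom)
    (h2 : Function.Bijective (g.residueFieldMap (f x)).hom) :
    Function.Bijective ((f ≫ g).residueFieldMap x).hom := by
  have h : ((f ≫ g).residueFieldMap x).hom =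
      (f.residueFieldMap x).hom.comp (g.residueFieldMap (f x)).hom :=
    congrArg CommRingCat.Hom.hom (Scheme.residueFieldMap_comp f g x)
  rw [h]
  exact h1.comp h2

theorem bijective_of_residueFieldMap_comp {X Y Z : Scheme.{u}} (f : X ⟶ Y) (g : Y ⟶ Z) (x : X)
    (h1 : Function.Bijective ((f ≫ g).residueFieldMap x).hom) :
    (Function.Bijective (g.residueFieldMap (f x)).hom →
      Function.Bijective (f.residueFieldMap x).hom) ∧
    Function.Bijective (g.residueFieldMap (f x)).hom := by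
  have h : ((f ≫ g).residueFieldMap x).hom =
      (f.residueFieldMap x).hom.comp (g.residueFieldMap (f x)).hom :=
    congrArg CommRingCat.Hom.hom (Scheme.residueFieldMap_comp f g x)
  rw [h] at h1
  have h2 : Function.Bijective (⇑(f.residueFieldMap x).hom ∘ ⇑(g.residueFieldMap (f x)).hom) := h1
  have h3 : Function.Bijective (f.residueFieldMap x).hom := ⟨RingHom.injective _, h2.2.of_comp⟩
  exact ⟨fun _ => h3, (Function.Bijective.of_comp_iff' h3 _).1 h2⟩

/-- The integral case. -/
theorem exists_openImmersion_of_isIntegral {X Y : Scheme.{u}} [IsIntegral Y] (f : X ⟶ Y)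
    [IsSeparated f] [LocallyOfFiniteType f] [FormallyUnramified f] (x ξ : X) (hξ : ξ ⤳ x)
    (hy : CAlg2.IsGeomUnibranch (Y.presheaf.stalk (f x))) (hgen : f ξ = genericPoint Y)
    (hres : Function.Bijective (f.residueFieldMap ξ).hom) :
    ∃ W : X.Opens, x ∈ W ∧ IsIntegral W.toScheme ∧ IsOpenImmersion (W.ι ≫ f) := by
  obtain ⟨V, W, hV, hW, e, hxW, h⟩ :=
    Groth.Agent.UnramA.UnramIntegralScheme.local_dichotomy f x hy
  have hξW : ξ ∈ W := hξ.mem_open W.2 hxW
  rcases h with ⟨hE, hI⟩ | ⟨a, ha, ha'⟩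
  · refine ⟨W, hxW, hI, ?_⟩
    let w : W.toScheme := ⟨ξ, hξW⟩
    have hwf : (W.ι ≫ f) w = genericPoint Y := hgen
    have hlqf := LQF.locallyQuasiFinite_of_etale (W.ι ≫ f)
    have hgw : genericPoint W.toScheme = w := by
      have h1 : genericPoint W.toScheme ⤳ w := genericPoint_specializes w
      have h2 : (W.ι ≫ f) (genericPoint W.toScheme) = genericPoint Y := by
        have h3 : (W.ι ≫ f) (genericPoint W.toScheme) ⤳ genericPoint Y := by
          rw [← hwf]
          exact h1.map (W.ι ≫ f).continuous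
        exact (h3.antisymm (genericPoint_specializes _)).eq
      have h4 := (W.ι ≫ f).isDiscrete_preimage_singleton (genericPoint Y)
      have h5 : DiscreteTopology ((W.ι ≫ f) ⁻¹' {genericPoint Y}) := h4.to_subtype
      have h6 : (⟨genericPoint W.toScheme, h2⟩ : (W.ι ≫ f) ⁻¹' {genericPoint Y}) ⤳
          ⟨w, hwf⟩ := by
        rwa [subtype_specializes_iff]
      exact congrArg Subtype.val h6.eq
    have hres' : Function.Bijective ((W.ι ≫ f).residueFieldMap (genericPoint W.toScheme)).hom := by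
      rw [hgw]
      exact bijective_residueFieldMap_comp W.ι f w
        ((ConcreteCategory.isIso_iff_bijective _).1 inferInstance) hres
    exact Groth.Agent.S5067.result (W.ι ≫ f) (by rw [← hwf, hgw]) hres'
  · exfalso
    have h1 : genericPoint Y ∈ Y.basicOpen a := by
      have hne : (Y.basicOpen a : Set Y).Nonempty := by
        rw [Set.nonempty_iff_ne_empty]
        intro h0
        exact ha ((basicOpen_eq_bot_iff a).1 (Opens.ext h0))
      exact ((genericPoint_spec Y).mem_open_set_iff (Y.basicOpen a).2).2 (by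
        rw [Set.univ_inter]; exact hne)
    have h2 : ξ ∈ X.basicOpen ((f.appLE V W e).hom a) := by
      rw [Scheme.basicOpen_appLE]
      exact ⟨hξW, show f ξ ∈ Y.basicOpen a by rw [hgen]; exact h1⟩
    rw [ha', Scheme.basicOpen_zero] at h2
    exact h2

theorem isDomain_of_isUnibranch {A : Type*} [CommRing A] [IsLocalRing A] [IsReduced A]
    (h : CAlg2.IsUnibranch A) : IsDomain A := by
  have h1 : IsDomain (A ⧸ nilradical A) := h.1
  have h2 : (nilradical A).IsPrime := (Ideal.Quotient.isDomain_iff_prime _).1 h1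
  rw [nilradical_eq_zero A] at h2
  have h3 : NoZeroDivisors A := ⟨fun {a b} hab => h2.mem_or_mem hab⟩
  exact NoZeroDivisors.to_isDomain A

/-- The case of a reduced base, near a point of an irreducible open subset. -/
theorem exists_openImmersion {X Y : Scheme.{u}} [IsReduced Y] (f : X ⟶ Y) [IsSeparated f]
    [LocallyOfFiniteType f] [FormallyUnramified f] (V : Y.Opens) (hV : IsIrreducible (V : Set Y))
    (x ξ : X) (hxV : f x ∈ V) (hξ : ξ ⤳ x)
    (hy : CAlg2.IsGeomUnibranch (Y.presheaf.stalk (f x))) (hgen : ∀ v ∈ V, f ξ ⤳ v)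
    (hres : Function.Bijective (f.residueFieldMap ξ).hom) :
    ∃ (W : Scheme.{u}) (j : W ⟶ X) (w : W), IsOpenImmersion j ∧ j w = x ∧ IsIntegral W ∧
      IsOpenImmersion (j ≫ f) := by
  have hξV : f ξ ∈ V := (hgen _ hxV).mem_open V.2 hxV
  have hirr : IrreducibleSpace V.toScheme := Subtype.irreducibleSpace hV
  have hint : IsIntegral V.toScheme := isIntegral_of_irreducibleSpace_of_isReduced _
  let x' : (f ⁻¹ᵁ V).toScheme := ⟨x, hxV⟩
  let ξ' : (f ⁻¹ᵁ V).toScheme := ⟨ξ, hξV⟩
  have hsp : ξ' ⤳ x' := (f ⁻¹ᵁ V).ι.isOpenEmbedding.toIsInducing.specializes_iff.1 hξ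
  have hdom : IsDomain (Y.presheaf.stalk (f x)) := isDomain_of_isUnibranch hy.1
  have hy' : ∀ p : V.toScheme, p = ⟨f x, hxV⟩ →
      CAlg2.IsGeomUnibranch (V.toScheme.presheaf.stalk p) := by
    rintro _ rfl
    exact Groth.Agent.UnramA.Unibranch.isGeomUnibranch_congr
      (V.stalkIso ⟨f x, hxV⟩).symm.commRingCatIsoToRingEquiv hy
  have hx' : (f ∣_ V) x' = ⟨f x, hxV⟩ := Subtype.ext (morphismRestrict_base_coe f V x')
  have hgen' : (f ∣_ V) ξ' = genericPoint V.toScheme := by
    have h1 : (f ∣_ V) ξ' ⤳ genericPoint V.toScheme := by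
      refine V.ι.isOpenEmbedding.toIsInducing.specializes_iff.1 ?_
      have h2 : V.ι ((f ∣_ V) ξ') = f ξ := morphismRestrict_base_coe f V ξ'
      rw [h2]
      exact hgen _ (genericPoint V.toScheme).2
    exact (h1.antisymm (genericPoint_specializes _)).eq
  have hres' : Function.Bijective ((f ∣_ V).residueFieldMap ξ').hom := by
    have h1 := bijective_residueFieldMap_comp (f ⁻¹ᵁ V).ι f ξ'
      ((ConcreteCategory.isIso_iff_bijective _).1 inferInstance) hres
    rw [← morphismRestrict_ι] at h1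
    exact (bijective_of_residueFieldMap_comp (f ∣_ V) V.ι ξ' h1).1
      ((ConcreteCategory.isIso_iff_bijective _).1 inferInstance)
  have hur : FormallyUnramified (f ∣_ V) := IsZariskiLocalAtTarget.restrict ‹_› V
  obtain ⟨W, hxW, hW, hWo⟩ := exists_openImmersion_of_isIntegral (f ∣_ V) x' ξ' hsp
    (hy' _ hx') hgen' hres'
  refine ⟨W, W.ι ≫ (f ⁻¹ᵁ V).ι, ⟨x', hxW⟩, inferInstance, rfl, hW, ?_⟩
  have h1 : (W.ι ≫ (f ⁻¹ᵁ V).ι) ≫ f = (W.ι ≫ (f ∣_ V)) ≫ V.ι := by
    rw [Category.assoc, Category.assoc, morphismRestrict_ι]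
  rw [h1]
  infer_instance

/-- Extension of a rational section of a separated unramified morphism at a geometrically unibranch
point. -/
theorem exists_extension {X Y : Scheme.{u}} [IsReduced Y]
    (hcomp : LocallyFinite (fun Z : ↥(irreducibleComponents ↥Y) => (Z : Set ↥Y)))
    (f : X ⟶ Y) [IsSeparated f] [LocallyOfFiniteType f] [FormallyUnramified f]
    (U : Y.Opens) (hU : Dense (U : Set ↥Y)) (u : (U : Scheme.{u}) ⟶ X) (hu : u ≫ f = U.ι)
    (x : X) (hy : CAlg2.IsGeomUnibranch (Y.presheaf.stalk (f x)))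
    (hx : x ∈ closure (Set.range u)) :
    ∃ (V : Y.Opens) (v : (V : Scheme.{u}) ⟶ X), f x ∈ V ∧ v ≫ f = V.ι ∧
      Y.homOfLE (inf_le_left : U ⊓ V ≤ U) ≫ u = Y.homOfLE (inf_le_right : U ⊓ V ≤ V) ≫ v := by
  obtain ⟨V₀, hyV, hV⟩ := exists_isIrreducible_nhd hcomp (f x) (isDomain_of_isUnibranch hy.1)
  have hirr : IrreducibleSpace V₀.toScheme := Subtype.irreducibleSpace hV
  have hfu : ∀ t : U.toScheme, f (u t) = t.1 := fun t => by
    rw [← Scheme.Hom.comp_apply, hu]; rfl
  -- the generic point of `V₀` lies in `U`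
  let η : Y := (genericPoint V₀.toScheme).1
  have hη : ∀ v ∈ V₀, η ⤳ v := fun v hv =>
    (genericPoint_specializes (α := V₀.toScheme) ⟨v, hv⟩).map V₀.ι.continuous
  have hηU : η ∈ U := by
    obtain ⟨t, ht1, ht2⟩ := hU.inter_open_nonempty _ V₀.2 ⟨_, hyV⟩
    exact (hη t ht1).mem_open U.2 ht2
  let η' : U.toScheme := ⟨η, hηU⟩
  have hξ : u η' ⤳ x := by
    rw [specializes_iff_forall_open]
    intro N hN hxN
    obtain ⟨_, ⟨hz1, hz2⟩, t, rfl⟩ := mem_closure_iff.1 hx (N ∩ f ⁻¹ᵁ V₀)
      (hN.inter (f ⁻¹ᵁ V₀).2) ⟨hxN, hyV⟩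
    have h1 : η' ⤳ t := by
      refine U.ι.isOpenEmbedding.toIsInducing.specializes_iff.1 (hη _ ?_)
      have h2 : f (u t) ∈ V₀ := hz2
      rw [hfu] at h2
      exact h2
    exact (h1.map u.continuous).mem_open hN hz1
  have hres : Function.Bijective (f.residueFieldMap (u η')).hom := by
    have h1 : Function.Bijective ((u ≫ f).residueFieldMap η').hom := by
      rw [hu]
      exact (ConcreteCategory.isIso_iff_bijective _).1 inferInstance
    exact (bijective_of_residueFieldMap_comp u f η' h1).2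
  obtain ⟨W, j, w, hj, hjw, hW, hjf⟩ := exists_openImmersion f V₀ hV x (u η') hyV hξ hy
    (fun v hv => by rw [hfu]; exact hη v hv) hres
  have hjfm : Mono (j ≫ f) := inferInstance
  let V : Y.Opens := (j ≫ f).opensRange
  let v : V.toScheme ⟶ X := (j ≫ f).isoOpensRange.inv ≫ j
  have hv : v ≫ f = V.ι := by
    rw [Category.assoc, ← cancel_epi (j ≫ f).isoOpensRange.hom, Iso.hom_inv_id_assoc,
      Scheme.Hom.isoOpensRange_hom_ι]
  refine ⟨V, v, ⟨w, by rw [Scheme.Hom.comp_apply, hjw]⟩, hv, ?_⟩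
  -- the two sections agree on a nonempty open subset of the irreducible `U ⊓ V`
  let a : (U ⊓ V : Y.Opens).toScheme ⟶ X := Y.homOfLE (inf_le_left : U ⊓ V ≤ U) ≫ u
  let b : (U ⊓ V : Y.Opens).toScheme ⟶ X := Y.homOfLE (inf_le_right : U ⊓ V ≤ V) ≫ v
  have ha : a ≫ f = (U ⊓ V).ι := by
    rw [Category.assoc, hu, Scheme.homOfLE_ι]
  have hb : b ≫ f = (U ⊓ V).ι := by
    rw [Category.assoc, hv, Scheme.homOfLE_ι]
  have hVirr : IsIrreducible (V : Set Y) := by
    have h1 : (V : Set Y) = (j ≫ f) '' Set.univ := Set.image_univ.symm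
    rw [h1]
    exact (IrreducibleSpace.isIrreducible_univ W).image _ (j ≫ f).continuous.continuousOn
  have hξj : u η' ∈ j.opensRange := hξ.mem_open j.opensRange.2 ⟨w, hjw⟩
  have hηV : η ∈ V := by
    obtain ⟨t, ht⟩ := hξj
    refine ⟨t, ?_⟩
    change (j ≫ f) t = η
    rw [Scheme.Hom.comp_apply]
    change f (j t) = η
    have ht' : j t = u η' := ht
    rw [ht', hfu]
  have hUV : IsIrreducible ((U ⊓ V : Y.Opens) : Set Y) :=
    ⟨⟨η, hηU, hηV⟩, hVirr.2.open_subset (U ⊓ V).2 Set.inter_subset_right⟩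
  have hUVi : IrreducibleSpace (U ⊓ V : Y.Opens).toScheme := Subtype.irreducibleSpace hUV
  let O : (U ⊓ V : Y.Opens).toScheme.Opens := a ⁻¹ᵁ j.opensRange
  have hηO : (⟨η, hηU, hηV⟩ : (U ⊓ V : Y.Opens).toScheme) ∈ O := by
    have h1 : a (⟨η, hηU, hηV⟩ : (U ⊓ V : Y.Opens).toScheme) = u η' := by
      rw [Scheme.Hom.comp_apply]
      congr 1
      apply Subtype.ext
      exact Scheme.homOfLE_apply _ _ 
    change a _ ∈ j.opensRange
    rw [h1]
    exact hξj
  have hdomO : IsDominant O.ι := by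
    refine ⟨?_⟩
    rw [DenseRange, Scheme.Opens.range_ι]
    exact O.2.dense ⟨_, hηO⟩
  have hagree : O.ι ≫ a = O.ι ≫ b := by
    have hr : Set.range (O.ι ≫ a) ⊆ Set.range j := by
      rintro _ ⟨t, rfl⟩
      exact t.2
    let a' : O.toScheme ⟶ W := IsOpenImmersion.lift j (O.ι ≫ a) hr
    have ha' : a' ≫ j = O.ι ≫ a := IsOpenImmersion.lift_fac _ _ _
    let b' : O.toScheme ⟶ W := O.ι ≫ Y.homOfLE (inf_le_right : U ⊓ V ≤ V) ≫
      (j ≫ f).isoOpensRange.inv
    have hb' : b' ≫ j = O.ι ≫ b := by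
      simp only [b', b, v, Category.assoc]
    have h1 : a' = b' := by
      have e1 : (O.ι ≫ a) ≫ f = (O.ι ≫ b) ≫ f :=
        (Category.assoc O.ι a f).trans ((congrArg (O.ι ≫ ·) (ha.trans hb.symm)).trans
          (Category.assoc O.ι b f).symm)
      rw [← cancel_mono (j ≫ f), ← Category.assoc, ← Category.assoc, ha', hb', e1]
    rw [← ha', h1, hb']
  exact ext_of_isDominant_of_isSeparated f (ha.trans hb.symm) O.ι hagree

end K147.UnibSection
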