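import Mathlib.RingTheory.HopkinsLevitzki
import Mathlib.RingTheory.Noetherian.OfPrime
import Mathlib.RingTheory.LocalRing.ResidueField.Basic
import Mathlib.RingTheory.FiniteType
import Mathlib.RingTheory.Finiteness.Basic

set_option autoImplicit false
universe u

/-!
# The subring of a local ring of elements with residue class in a subfield

`K147.ArtinSub.sub ρ ψ`: for a local ring `C`, a surjection `ρ : C → K` onto a field and a field extension `ψ : k → K`, the
subring `ρ⁻¹(k)` of `C`. It is local, `C` is finite over it if `K` is finite over `k`, and it is then Artinian if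
`C` is Artinian.
-/

namespace K147.ArtinSub

open IsLocalRing

variable {k K C : Type u} [Field k] [Field K] [CommRing C] (ρ : C →+* K) (ψ : k →+* K)

/-- Elements of `C` whose image in `K` is in the image of `k`. -/
def sub : Subring C := ψ.range.comap ρ

theorem mem_sub {c : C} : c ∈ sub ρ ψ ↔ ∃ r, ψ r = ρ c := by
  simp only [sub, Subring.mem_comap, RingHom.mem_range]

theorem mem_sub_of_ker {c : C} (hc : ρ c = 0) : c ∈ sub ρ ψ := by
  rw [mem_sub]
  exact ⟨0, by rw [map_zero, hc]⟩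

variable [IsLocalRing C]

theorem mem_maximalIdeal_iff (hρ : Function.Surjective ρ) (c : C) : c ∈ maximalIdeal C ↔ ρ c = 0 := by
  have h1 : (RingHom.ker ρ).IsMaximal := RingHom.ker_isMaximal_of_surjective ρ hρ
  have h2 := IsLocalRing.eq_maximalIdeal h1
  rw [← h2, RingHom.mem_ker]

theorem isLocalHom_subtype (hρ : Function.Surjective ρ) : IsLocalHom (sub ρ ψ).subtype := by
  constructor
  rintro ⟨c, hc⟩ hu
  change IsUnit c at hu
  obtain ⟨u, rfl⟩ := hu
  obtain ⟨r, hr⟩ := (mem_sub ρ ψ).mp hc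
  have h6 : ρ u * ρ ((u⁻¹ : Cˣ) : C) = 1 := by
    rw [← map_mul, Units.mul_inv, map_one]
  have h7 : ρ (u : C) ≠ 0 := left_ne_zero_of_mul_eq_one h6
  have hr0 : r ≠ 0 := by
    rintro rfl
    rw [map_zero] at hr
    exact h7 hr.symm
  have h4 : ((u⁻¹ : Cˣ) : C) ∈ sub ρ ψ := by
    rw [mem_sub]
    refine ⟨r⁻¹, ?_⟩
    rw [map_inv₀, hr]
    exact (eq_inv_of_mul_eq_one_right h6).symm
  exact ⟨⟨⟨u, hc⟩, ⟨_, h4⟩, Subtype.ext (Units.mul_inv u), Subtype.ext (Units.inv_mul u)⟩, rfl⟩

theorem isLocalRing_sub (hρ : Function.Surjective ρ) : IsLocalRing (sub ρ ψ) :=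
  have := isLocalHom_subtype ρ ψ hρ
  (sub ρ ψ).subtype.domain_isLocalRing

omit [IsLocalRing C] in
theorem finite_sub (hρ : Function.Surjective ρ) (hfin : ψ.Finite) : Module.Finite (sub ρ ψ) C := by
  algebraize [ψ]
  obtain ⟨s, hs⟩ := (Module.finite_def (R := k) (M := K)).mp hfin
  classical
  let l : K → C := Function.surjInv hρ
  have hl : ∀ x, ρ (l x) = x := Function.surjInv_eq _
  let t : Finset C := insert 1 (s.image l)
  refine ⟨⟨t, ?_⟩⟩
  rw [eq_top_iff]
  rintro c -
  have h1 : ∀ x : K, x ∈ Submodule.span k (s : Set K) →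
      ∃ d ∈ Submodule.span (sub ρ ψ) (t : Set C), ρ d = x := by
    intro x hx
    induction hx using Submodule.span_induction with
    | mem x hx =>
      refine ⟨l x, Submodule.subset_span ?_, hl x⟩
      simp only [t, Finset.coe_insert, Finset.coe_image]
      exact Or.inr ⟨x, hx, rfl⟩
    | zero => exact ⟨0, Submodule.zero_mem _, map_zero _⟩
    | add x y _ _ hx hy =>
      obtain ⟨d, hd, rfl⟩ := hx
      obtain ⟨e, he, rfl⟩ := hy
      exact ⟨d + e, Submodule.add_mem _ hd he, map_add _ _ _⟩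
    | smul r x _ hx =>
      obtain ⟨d, hd, rfl⟩ := hx
      have hr : l (ψ r) ∈ sub ρ ψ := (mem_sub ρ ψ).mpr ⟨r, (hl _).symm⟩
      refine ⟨(⟨l (ψ r), hr⟩ : sub ρ ψ) • d, Submodule.smul_mem _ _ hd, ?_⟩
      rw [Algebra.smul_def, Algebra.smul_def, map_mul]
      change ρ (l (ψ r)) * ρ d = _
      rw [hl]
      rfl
  obtain ⟨d, hd, hd'⟩ := h1 (ρ c) (by rw [hs]; trivial)
  have h2 : ρ (c - d) = 0 := by rw [map_sub, hd', sub_self]
  have h3 : c - d ∈ Submodule.span (sub ρ ψ) (t : Set C) := by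
    have : c - d = (⟨c - d, mem_sub_of_ker ρ ψ h2⟩ : sub ρ ψ) • (1 : C) := by
      rw [Algebra.smul_def, mul_one]; rfl
    rw [this]
    exact Submodule.smul_mem _ _ (Submodule.subset_span (by simp [t]))
  have : c = (c - d) + d := by ring
  rw [this]
  exact Submodule.add_mem _ h3 hd

theorem isArtinianRing_sub [IsArtinianRing C] (hρ : Function.Surjective ρ) (hfin : ψ.Finite) :
    IsArtinianRing (sub ρ ψ) := by
  have h1 := finite_sub ρ ψ hρ hfin
  have hloc := isLocalRing_sub ρ ψ hρ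
  have hloc' := isLocalHom_subtype ρ ψ hρ
  have hnil : IsNilpotent (maximalIdeal C) :=
    (isArtinianRing_iff_isNilpotent_maximalIdeal C).mp inferInstance
  obtain ⟨n, hn⟩ := hnil
  have hmem : ∀ x : sub ρ ψ, x ∈ maximalIdeal (sub ρ ψ) ↔ (x : C) ∈ maximalIdeal C := fun x =>
    not_congr ((isUnit_map_iff (sub ρ ψ).subtype x).symm)
  have hmap : (maximalIdeal (sub ρ ψ)).map (sub ρ ψ).subtype ≤ maximalIdeal C := by
    rw [Ideal.map_le_iff_le_comap]
    intro x hx
    exact (hmem x).mp hx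
  have hn' : maximalIdeal (sub ρ ψ) ^ n = ⊥ := by
    rw [eq_bot_iff]
    intro x hx
    have h2 : (x : C) ∈ maximalIdeal C ^ n := by
      have h3 : (sub ρ ψ).subtype x ∈ ((maximalIdeal (sub ρ ψ)) ^ n).map (sub ρ ψ).subtype :=
        Ideal.mem_map_of_mem _ hx
      rw [Ideal.map_pow] at h3
      exact Ideal.pow_right_mono hmap n h3
    rw [hn] at h2
    exact Subtype.ext h2
  have hfg : (maximalIdeal (sub ρ ψ)).FG := by
    have h4 : ((maximalIdeal C : Submodule C C).restrictScalars (sub ρ ψ)).FG :=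
      Submodule.FG.restrictScalars ((inferInstance : IsNoetherianRing C).noetherian _)
    refine Submodule.fg_of_fg_map_injective (Algebra.linearMap (sub ρ ψ) C) Subtype.coe_injective ?_
    convert h4
    ext x
    constructor
    · rintro ⟨y, hy, rfl⟩
      exact (hmem y).mp hy
    · intro hx
      exact ⟨⟨x, mem_sub_of_ker ρ ψ ((mem_maximalIdeal_iff ρ hρ x).mp hx)⟩, (hmem _).mpr hx, rfl⟩
  have hnoeth : IsNoetherianRing (sub ρ ψ) := by
    refine IsNoetherianRing.of_prime fun I hI => ?_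
    have h5 : maximalIdeal (sub ρ ψ) ≤ I := by
      refine hI.le_of_pow_le (n := n) ?_
      rw [hn']; exact bot_le
    have h6 : I = maximalIdeal (sub ρ ψ) := le_antisymm (le_maximalIdeal hI.ne_top) h5
    rw [h6]; exact hfg
  exact (isArtinianRing_iff_isNilpotent_maximalIdeal _).mpr ⟨n, hn'⟩

end K147.ArtinSub
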