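import Mathlib.RingTheory.Ideal.KrullsHeightTheorem
import Mathlib.RingTheory.Ideal.GoingUp
import Mathlib.RingTheory.IntegralClosure.IntegrallyClosed
import Mathlib.RingTheory.Polynomial.Basic
import Mathlib.RingTheory.FiniteType

/-!
# Functions on the punctured spectrum are integral

`isIntegral_of_pow_mul`: let `A` be a Noetherian local domain with fraction field `K` such that every
maximal ideal of the integral closure `A'` of `A` in `K` has height at least two. Let `s ∈ K` be such
that every element of the maximal ideal of `A` has a power multiplying `s` into `A`. Then `s` is integral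
over `A`. The proof only uses Krull's principal ideal theorem for the ring `A[s⁻¹]` and the following
lemma (`coeff_mem`, going back to Seidenberg): if `R` is integrally closed in `K`, `M` is a prime, and
`t ∈ K` is such that neither `b t` nor `b t⁻¹` is in `R` for `b ∉ M`, then all algebraic relations of `t`
over `R` have coefficients in `M`.
-/

set_option autoImplicit false

open Polynomial

namespace K147.PuncInt

/-- Seidenberg's lemma. -/
theorem coeff_mem {R K : Type*} [CommRing R] [Field K] [Algebra R K]
    (hR : ∀ x : K, IsIntegral R x → ∃ r : R, algebraMap R K r = x) (M : Ideal R)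
    (t : K) (ht0 : t ≠ 0) (h1 : ∀ b r : R, algebraMap R K b * t = algebraMap R K r → b ∈ M)
    (h2 : ∀ b r : R, algebraMap R K b * t⁻¹ = algebraMap R K r → b ∈ M)
    (hinj : Function.Injective (algebraMap R K)) :
    ∀ (n : ℕ) (g : R[X]), g.natDegree ≤ n → aeval t g = 0 → ∀ i, g.coeff i ∈ M := by
  intro n
  induction n with
  | zero =>
    intro g hg h i
    have hg' := eq_C_of_natDegree_le_zero hg
    rw [hg', aeval_C] at h
    have h0 : g.coeff 0 = 0 := hinj (by rw [h, map_zero])
    rw [hg', h0, map_zero, coeff_zero]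
    exact M.zero_mem
  | succ n ih =>
    intro g hg h i
    by_cases hd : g.natDegree ≤ n
    · exact ih g hd h i
    have hdeg : g.natDegree = n + 1 := by omega
    obtain ⟨r, hr⟩ := hR _ (isIntegral_leadingCoeff_smul g t h)
    rw [Algebra.smul_def] at hr
    have hc : g.leadingCoeff ∈ M := h1 _ r hr.symm
    have hrM : r ∈ M := h2 r g.leadingCoeff (by
      rw [hr, mul_assoc, mul_inv_cancel₀ ht0, mul_one])
    let g₂ : R[X] := g.eraseLead + C r * X ^ n
    have hg₂ : g₂.natDegree ≤ n := by
      refine (natDegree_add_le _ _).trans (max_le ?_ ?_)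
      · exact (eraseLead_natDegree_le g).trans (by omega)
      · exact natDegree_C_mul_X_pow_le r n
    have h3 : aeval t g₂ = 0 := by
      have h4 : g.eraseLead = g - C g.leadingCoeff * X ^ g.natDegree :=
        (self_sub_C_mul_X_pow g).symm
      rw [map_add, h4, map_sub, h, map_mul, map_mul, aeval_C, aeval_C, map_pow, map_pow, aeval_X, hr,
        hdeg]
      ring
    have h5 := ih g₂ hg₂ h3
    rcases lt_trichotomy i n with hi | hi | hi
    · have h6 := h5 i
      rw [coeff_add, coeff_C_mul_X_pow, if_neg (by omega), add_zero, eraseLead_coeff,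
        if_neg (by omega)] at h6
      exact h6
    · have h6 := h5 i
      rw [coeff_add, coeff_C_mul_X_pow, if_pos hi, eraseLead_coeff, if_neg (by omega)] at h6
      exact (M.add_mem_iff_left hrM).1 h6
    · by_cases hi' : i = n + 1
      · rw [hi', ← hdeg]
        exact hc
      · rw [coeff_eq_zero_of_natDegree_lt (by omega)]
        exact M.zero_mem

section Main

variable {A K : Type*} [CommRing A] [IsNoetherianRing A] [IsLocalRing A] [Field K]
  [Algebra A K] [IsFractionRing A K]

/-- Functions on the punctured spectrum are integral. -/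
theorem isIntegral_of_pow_mul
    (hdim : ∀ M : Ideal (integralClosure A K), M.IsMaximal →
      ∃ N : Ideal (integralClosure A K), N.IsPrime ∧ N ≠ ⊥ ∧ N < M) (s : K)
    (hs : ∀ a ∈ IsLocalRing.maximalIdeal A, ∃ (n : ℕ) (b : A),
      algebraMap A K a ^ n * s = algebraMap A K b) : IsIntegral A s := by
  by_contra hsn
  have hs0 : s ≠ 0 := fun h => hsn (h ▸ isIntegral_zero)
  let m := IsLocalRing.maximalIdeal A
  let A' := integralClosure A K
  have hinjK : Function.Injective (algebraMap A K) := IsFractionRing.injective A K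
  have hA' : ∀ x : K, IsIntegral A' x → ∃ r : A', algebraMap A' K r = x := fun x hx =>
    ⟨⟨x, isIntegral_trans x hx⟩, rfl⟩
  -- a maximal ideal of `A'` containing the denominators of `s`
  let J : Ideal A' :=
    { carrier := {x | ∃ y : A', (x : K) * s = y}
      zero_mem' := ⟨0, by simp⟩
      add_mem' := by
        rintro x x' ⟨y, hy⟩ ⟨y', hy'⟩
        exact ⟨y + y', by push_cast; rw [add_mul, hy, hy']⟩
      smul_mem' := by
        rintro c x ⟨y, hy⟩
        refine ⟨c * y, ?_⟩
        rw [smul_eq_mul]
        push_cast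
        rw [mul_assoc, hy] }
  have hJ : J ≠ ⊤ := by
    rw [Ideal.ne_top_iff_one]
    rintro ⟨y, hy⟩
    refine hsn ?_
    have h1 : s = y := by simpa using hy
    rw [h1]
    exact y.2
  obtain ⟨M, hM, hJM⟩ := Ideal.exists_le_maximal J hJ
  have hMp : M.IsPrime := hM.isPrime
  have hMm : M.comap (algebraMap A A') = m :=
    IsLocalRing.eq_maximalIdeal (Ideal.isMaximal_comap_of_isIntegral_of_isMaximal M)
  -- the ring `C = A[t]`, `t = s⁻¹`
  let t : K := s⁻¹
  have ht0 : t ≠ 0 := inv_ne_zero hs0
  let C : Subalgebra A K := Algebra.adjoin A {t}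
  have htC : t ∈ C := Algebra.subset_adjoin rfl
  let tC : C := ⟨t, htC⟩
  have hCft : Algebra.FiniteType A C :=
    ⟨(Subalgebra.fg_top C).2 ⟨{t}, by simp [C]⟩⟩
  have hCN : IsNoetherianRing C := Algebra.FiniteType.isNoetherianRing A C
  -- powers of elements of `m` are divisible by `t`
  have hmt : ∀ (P : Ideal C), P.IsPrime → tC ∈ P → ∀ a ∈ m, algebraMap A C a ∈ P := by
    intro P hP htP a ha
    obtain ⟨n, b, hb⟩ := hs a ha
    have h1 : algebraMap A C a ^ n = tC * algebraMap A C b := by
      apply Subtype.ext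
      push_cast
      change algebraMap A K a ^ n = s⁻¹ * algebraMap A K b
      rw [← hb]
      field_simp
    exact hP.mem_of_pow_mem n (h1 ▸ P.mul_mem_right _ htP)
  -- the key contradiction
  have key : ∀ P : Ideal C, P.IsPrime → P ≠ ⊥ →
      (∀ Q : Ideal C, Q.IsPrime → tC ∈ Q → P < Q) → ¬ IsUnit tC → False := by
    intro P hP hP0 hPQ hu
    have h1 : Ideal.span {tC} ≠ ⊤ := by rwa [Ne, Ideal.span_singleton_eq_top]
    obtain ⟨Q, hQ⟩ := Ideal.nonempty_minimalPrimes h1
    have hQp : Q.IsPrime := hQ.1.1
    have htQ : tC ∈ Q := hQ.1.2 (Ideal.mem_span_singleton_self _)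
    have h2 := Ideal.height_le_one_of_isPrincipal_of_mem_minimalPrimes _ Q hQ
    have h3 := Ideal.height_add_one_le_of_lt_of_isPrime (hPQ Q hQp htQ)
    have h4 := Ideal.height_add_one_le_of_lt_of_isPrime (bot_lt_iff_ne_bot.2 hP0)
    have h5 : (2 : ℕ∞) ≤ 1 := calc
      (2 : ℕ∞) = 0 + 1 + 1 := by norm_num
      _ ≤ (⊥ : Ideal C).height + 1 + 1 := by gcongr; exact bot_le
      _ ≤ P.height + 1 := by gcongr
      _ ≤ Q.height := h3
      _ ≤ 1 := h2
    exact absurd h5 (by decide)
  obtain ⟨N, hN, hN0, hNM⟩ := hdim M hM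
  obtain ⟨a₀, ha₀N, ha₀⟩ : ∃ a₀ : A, algebraMap A A' a₀ ∈ N ∧ a₀ ≠ 0 := by
    obtain ⟨x, hx, hx0⟩ := Submodule.exists_mem_ne_zero_of_ne_bot hN0
    have h1 : N.comap (algebraMap A A') ≠ ⊥ :=
      Ideal.comap_ne_bot_of_integral_mem hx0 hx (Algebra.IsIntegral.isIntegral x)
    obtain ⟨a, ha, ha0⟩ := Submodule.exists_mem_ne_zero_of_ne_bot h1
    exact ⟨a, ha, ha0⟩
  have ha₀m : a₀ ∈ m := by
    rw [← hMm]
    exact hNM.le ha₀N
  have hAC : ∀ a : A, ((algebraMap A C a : C) : K) = algebraMap A K a := fun a => rfl
  have hAA' : ∀ a : A, ((algebraMap A A' a : A') : K) = algebraMap A K a := fun a => rfl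
  by_cases hcase : ∃ b : A', b ∉ M ∧ IsIntegral A ((b : K) * t)
  · obtain ⟨b₁, hb₁, hy₁⟩ := hcase
    let y₁ : A' := ⟨(b₁ : K) * t, hy₁⟩
    have hy₁M : y₁ ∈ M := by
      refine hJM ⟨b₁, ?_⟩
      change (b₁ : K) * s⁻¹ * s = b₁
      rw [mul_assoc, inv_mul_cancel₀ hs0, mul_one]
    -- denominators
    have hden : ∀ c : K, c ∈ C → ∃ b z : A', b ∉ M ∧ (b : K) * c = z := by
      intro c hc
      refine Algebra.adjoin_induction (R := A) (s := {t})
        (p := fun c _ => ∃ b z : A', b ∉ M ∧ (b : K) * c = z) ?_ ?_ ?_ ?_ hc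
      · rintro x rfl
        exact ⟨b₁, y₁, hb₁, rfl⟩
      · intro a
        exact ⟨1, algebraMap A A' a, (Ideal.ne_top_iff_one M).1 hM.ne_top, by rw [hAA']; simp⟩
      · rintro x y - - ⟨b, z, hb, hz⟩ ⟨b', z', hb', hz'⟩
        refine ⟨b * b', b' * z + b * z', fun h => (hMp.mem_or_mem h).elim hb hb', ?_⟩
        push_cast
        rw [← hz, ← hz']
        ring
      · rintro x y - - ⟨b, z, hb, hz⟩ ⟨b', z', hb', hz'⟩
        refine ⟨b * b', z * z', fun h => (hMp.mem_or_mem h).elim hb hb', ?_⟩
        push_cast
        rw [← hz, ← hz']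
        ring
    have hmodt : ∀ c : K, c ∈ C → ∃ (a : A) (h : C), c = algebraMap A K a + t * h := by
      intro c hc
      refine Algebra.adjoin_induction (R := A) (s := {t})
        (p := fun c _ => ∃ (a : A) (h : C), c = algebraMap A K a + t * h) ?_ ?_ ?_ ?_ hc
      · rintro x rfl
        exact ⟨0, 1, by simp⟩
      · intro a
        exact ⟨a, 0, by simp⟩
      · rintro x y - - ⟨a, h, rfl⟩ ⟨a', h', rfl⟩
        refine ⟨a + a', h + h', ?_⟩
        rw [map_add, AddMemClass.coe_add]
        ring
      · rintro x y - - ⟨a, h, rfl⟩ ⟨a', h', rfl⟩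
        refine ⟨a * a', algebraMap A C a * h' + algebraMap A C a' * h + tC * h * h', ?_⟩
        rw [map_mul, AddMemClass.coe_add, AddMemClass.coe_add, MulMemClass.coe_mul,
          MulMemClass.coe_mul, MulMemClass.coe_mul, MulMemClass.coe_mul, hAC, hAC]
        change _ = _ + t * (_ + _ + t * h * h')
        ring
    let P : Ideal C :=
      { carrier := {c | ∃ b x : A', b ∉ M ∧ x ∈ N ∧ (b : K) * c = x}
        zero_mem' := ⟨1, 0, (Ideal.ne_top_iff_one M).1 hM.ne_top, N.zero_mem, by simp⟩
        add_mem' := by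
          rintro c c' ⟨b, x, hb, hx, h⟩ ⟨b', x', hb', hx', h'⟩
          refine ⟨b * b', b' * x + b * x', fun h => (hMp.mem_or_mem h).elim hb hb',
            N.add_mem (N.mul_mem_left _ hx) (N.mul_mem_left _ hx'), ?_⟩
          push_cast
          rw [← h, ← h']
          ring
        smul_mem' := by
          rintro d c ⟨b, x, hb, hx, h⟩
          obtain ⟨b', z, hb', hz⟩ := hden d d.2
          refine ⟨b * b', z * x, fun h => (hMp.mem_or_mem h).elim hb hb', N.mul_mem_left _ hx, ?_⟩
          rw [smul_eq_mul]
          push_cast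
          rw [← h, ← hz]
          ring }
    have hPmem : ∀ c : C, c ∈ P ↔ ∃ b x : A', b ∉ M ∧ x ∈ N ∧ (b : K) * c = x := fun c => Iff.rfl
    have hP : P.IsPrime := by
      refine ⟨?_, ?_⟩
      · rw [Ideal.ne_top_iff_one, hPmem]
        rintro ⟨b, x, hb, hx, h⟩
        refine hb (hNM.le ?_)
        have : b = x := Subtype.ext (by simpa using h)
        rwa [this]
      · intro c c' hcc'
        rw [hPmem] at hcc'
        obtain ⟨b, x, hb, hx, h⟩ := hcc'
        obtain ⟨d, z, hd, hz⟩ := hden c c.2
        obtain ⟨d', z', hd', hz'⟩ := hden c' c'.2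
        have h1 : b * (z * z') ∈ N := by
          have h2 : b * (z * z') = d * d' * x := by
            apply Subtype.ext
            push_cast
            rw [← h, ← hz, ← hz']
            push_cast
            ring
          rw [h2]
          exact N.mul_mem_left _ hx
        rcases hN.mem_or_mem h1 with h2 | h2
        · exact absurd (hNM.le h2) hb
        · rcases hN.mem_or_mem h2 with h3 | h3
          · exact Or.inl ((hPmem c).2 ⟨d, z, hd, h3, hz⟩)
          · exact Or.inr ((hPmem c').2 ⟨d', z', hd', h3, hz'⟩)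
    refine key P hP ?_ ?_ ?_
    · intro h0
      have h1 : algebraMap A C a₀ ∈ P :=
        (hPmem _).2 ⟨1, algebraMap A A' a₀, (Ideal.ne_top_iff_one M).1 hM.ne_top, ha₀N, by
          rw [hAA', hAC]; simp⟩
      rw [h0, Ideal.mem_bot] at h1
      refine ha₀ (hinjK ?_)
      rw [map_zero, ← hAC, h1]
      rfl
    · intro Q hQ htQ
      refine lt_of_le_of_ne ?_ ?_
      · intro c hc
        obtain ⟨b, x, hb, hx, h⟩ := (hPmem c).1 hc
        obtain ⟨a, e, he⟩ := hmodt c c.2
        obtain ⟨b₂, z, hb₂, hz⟩ := hden e e.2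
        have h1 : b * b₁ * b₂ * algebraMap A A' a ∈ M := by
          have h2 : b * b₁ * b₂ * algebraMap A A' a = b₁ * b₂ * x - b * y₁ * z := by
            apply Subtype.ext
            push_cast
            rw [← h, ← hz, he]
            change _ = _ - _ * ((b₁ : K) * t) * _
            ring
          rw [h2]
          exact M.sub_mem (M.mul_mem_left _ (hNM.le hx)) (M.mul_mem_right _ (M.mul_mem_left _ hy₁M))
        have h3 : algebraMap A A' a ∈ M := by
          rcases hMp.mem_or_mem h1 with h4 | h4
          · rcases hMp.mem_or_mem h4 with h5 | h5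
            · exact absurd h5 (fun h => (hMp.mem_or_mem h).elim hb hb₁)
            · exact absurd h5 hb₂
          · exact h4
        have h4 : a ∈ m := by
          rw [← hMm]
          exact h3
        have h5 : c = algebraMap A C a + tC * e := by
          apply Subtype.ext
          rw [AddMemClass.coe_add, MulMemClass.coe_mul, hAC]
          exact he
        rw [h5]
        exact Q.add_mem (hmt Q hQ htQ a h4) (Q.mul_mem_right _ htQ)
      · intro hPQ
        -- then `N` would lie over `m`
        have h1 : N.comap (algebraMap A A') = m := by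
          refine le_antisymm ?_ ?_
          · rw [← hMm]
            exact Ideal.comap_mono hNM.le
          · intro a ha
            have h2 := hmt Q hQ htQ a ha
            rw [← hPQ, hPmem] at h2
            obtain ⟨b, x, hb, hx, h⟩ := h2
            have h3 : b * algebraMap A A' a ∈ N := by
              have : b * algebraMap A A' a = x := by
                apply Subtype.ext
                rw [← h]
                rfl
              rwa [this]
            exact (hN.mem_or_mem h3).resolve_left fun h4 => hb (hNM.le h4)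
        have h2 := Ideal.IsIntegral.comap_lt_comap (R := A) hNM
        rw [h1, hMm] at h2
        exact lt_irrefl _ h2
    · rintro ⟨u, hu⟩
      obtain ⟨b, z, hb, hz⟩ := hden (u⁻¹ : Cˣ).1 (u⁻¹ : Cˣ).1.2
      refine hb (hJM ⟨z, ?_⟩)
      rw [← hz]
      congr 1
      have h1 : ((u : C) : K) * ((u⁻¹ : Cˣ) : C) = 1 := by
        rw [← MulMemClass.coe_mul, Units.mul_inv]
        rfl
      rw [hu] at h1
      change s⁻¹ * _ = 1 at h1
      field_simp at h1
      exact h1.symm
  · push Not at hcase
    let φ : A[X] →ₐ[A] C := aeval tC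
    have hφ : Function.Surjective φ := by
      intro c
      have h1 : (c : K) ∈ Algebra.adjoin A {t} := c.2
      rw [Algebra.adjoin_singleton_eq_range_aeval] at h1
      obtain ⟨g, hg⟩ := h1
      refine ⟨g, Subtype.ext ?_⟩
      rw [← hg]
      change ((aeval tC g : C) : K) = _
      exact (aeval_algHom_apply C.val tC g).symm
    have hφK : ∀ g : A[X], ((φ g : C) : K) = aeval t g := fun g =>
      (aeval_algHom_apply C.val tC g).symm
    have hker : ∀ g : A[X], φ g = 0 → ∀ i, g.coeff i ∈ m := by
      intro g hg i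
      have h1 : aeval t (g.map (algebraMap A A')) = 0 := by
        rw [aeval_map_algebraMap, ← hφK, hg]
        rfl
      have h2 := coeff_mem (R := A') hA' M t ht0 (fun b r h => by
          by_contra hb
          exact hcase b hb (h ▸ r.2))
        (fun b r h => hJM ⟨r, by
          rw [← show algebraMap A' K b * t⁻¹ = r from h, show t⁻¹ = s from inv_inv s]
          rfl⟩) Subtype.val_injective _ _ le_rfl h1 i
      rw [coeff_map] at h2
      rw [← hMm]
      exact h2
    have hkerle : RingHom.ker φ ≤ m.map (Polynomial.C : A →+* A[X]) := fun g hg =>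
      Ideal.mem_map_C_iff.2 (hker g hg)
    have hP : ((m.map (Polynomial.C : A →+* A[X])).map φ).IsPrime :=
      Ideal.map_isPrime_of_surjective hφ hkerle
    have htP : tC ∉ (m.map (Polynomial.C : A →+* A[X])).map φ := by
      intro h
      have h1 : (X : A[X]) ∈ ((m.map (Polynomial.C : A →+* A[X])).map φ).comap φ := by
        rw [Ideal.mem_comap]
        have : φ X = tC := aeval_X _
        rwa [this]
      rw [Ideal.comap_map_of_surjective' φ hφ, sup_eq_left.2 hkerle] at h1
      have h2 := Ideal.mem_map_C_iff.1 h1 1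
      rw [coeff_X_one] at h2
      exact (Ideal.ne_top_iff_one m).1 (IsLocalRing.maximalIdeal.isMaximal A).ne_top h2
    refine key ((m.map (Polynomial.C : A →+* A[X])).map φ) hP ?_ ?_ ?_
    · intro h0
      have h1 : algebraMap A C a₀ ∈ (m.map (Polynomial.C : A →+* A[X])).map φ := by
        have h2 : φ (Polynomial.C a₀) = algebraMap A C a₀ := aeval_C _ _
        rw [← h2]
        exact Ideal.mem_map_of_mem _ (Ideal.mem_map_of_mem _ ha₀m)
      rw [h0, Ideal.mem_bot] at h1
      refine ha₀ (hinjK ?_)
      rw [map_zero, ← hAC, h1]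
      rfl
    · intro Q hQ htQ
      refine lt_of_le_of_ne ?_ fun h => htP (h ▸ htQ)
      rw [Ideal.map_le_iff_le_comap, Ideal.map_le_iff_le_comap]
      intro a ha
      rw [Ideal.mem_comap, Ideal.mem_comap]
      have h2 : φ (Polynomial.C a) = algebraMap A C a := aeval_C _ _
      rw [h2]
      exact hmt Q hQ htQ a ha
    · rintro ⟨u, hu⟩
      obtain ⟨g, hg⟩ := hφ (u⁻¹ : Cˣ).1
      have h1 : φ (X * g - 1) = 0 := by
        rw [map_sub, map_mul, map_one, hg, show φ X = tC from aeval_X _, ← hu, Units.mul_inv,
          sub_self]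
      have h2 := hker _ h1 0
      rw [coeff_sub, mul_coeff_zero, coeff_X_zero, zero_mul, coeff_one_zero, zero_sub] at h2
      exact (Ideal.ne_top_iff_one m).1 (IsLocalRing.maximalIdeal.isMaximal A).ne_top
        (neg_mem_iff.1 h2)

end Main

end K147.PuncInt
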